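import Cfsg.Agent.Lib.Blocks.SectionPart
import Cfsg.Agent.Lib.GorensteinWalter.Four.Count
import Cfsg.Agent.Lib.Characters.Generalized

/-!
# Section Z: the section of an involution with centraliser `⟨t⟩ × K`

`secCoeff t K χ φ` is the inner product on `K` of `k ↦ χ (t k)` with `φ`.  It is an integer for a
generalised character `φ`, and for class functions `φ`, `ψ` on `K` vanishing at the elements of
even order the products over all irreducible `χ` sum to `2 ⟪ψ, φ⟫`.

Owner: helper68.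
-/

set_option autoImplicit false
set_option linter.style.haveILetI false

universe u

namespace Cfsg.Agent.Lib.Walter.NoField

open Subgroup Cfsg.Agent.Lib.Characters.Basic Cfsg.Agent.Lib.Characters.Complete
open scoped ComplexConjugate

variable {G : Type u} [Group G]

/-- The coefficient of `φ` in the restriction of `χ` to the section of `t`. -/
noncomputable def secCoeff (t : G) (K : Subgroup G) [Fintype ↥K] (χ : G → ℂ) (φ : ↥K → ℂ) : ℂ :=
  Cfsg.classInner (fun k : ↥K => χ (t * (k : G))) φ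

/-- A function vanishing at the elements of even order. -/
def OddSupport {K : Subgroup G} (φ : ↥K → ℂ) : Prop :=
  ∀ k : ↥K, 2 ∣ orderOf (k : G) → φ k = 0

section

variable {t : G} {K : Subgroup G}
  (hK : Cfsg.IsInternalDirectProduct (zpowers t) K (centralizer ({t} : Set G)))

include hK

theorem sec_comm {k : G} (hk : k ∈ K) : k * t = t * k :=
  (hK.2.2.1 t (mem_zpowers t) k hk).symm

theorem sec_mem {k : G} (hk : k ∈ K) : k ∈ centralizer ({t} : Set G) :=
  hK.2.1 hk

/-- An element of the centraliser acts on `K` as an element of `K`. -/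
theorem sec_exists_conj {v : G} (hv : v ∈ centralizer ({t} : Set G)) :
    ∃ w ∈ K, ∀ k ∈ K, v * k * v⁻¹ = w * k * w⁻¹ := by
  obtain ⟨hle₁, hle₂, hcomm, hdisj, hsup⟩ := hK
  rw [← hsup, Subgroup.sup_eq_closure] at hv
  induction hv using Subgroup.closure_induction with
  | mem x hx =>
    rcases hx with hx | hx
    · exact ⟨1, K.one_mem, fun k hk => by
        rw [hcomm x hx k hk, mul_inv_cancel_right, one_mul, inv_one, mul_one]⟩
    · exact ⟨x, hx, fun k _ => rfl⟩
  | one => exact ⟨1, K.one_mem, fun k _ => rfl⟩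
  | mul x y _ _ hx hy =>
    obtain ⟨a, ha, hax⟩ := hx
    obtain ⟨b, hb, hby⟩ := hy
    refine ⟨a * b, mul_mem ha hb, fun k hk => ?_⟩
    have h1 := hax _ (mul_mem (mul_mem hb hk) (inv_mem hb))
    rw [mul_inv_rev, mul_inv_rev]
    calc x * y * k * (y⁻¹ * x⁻¹) = x * (y * k * y⁻¹) * x⁻¹ := by group
      _ = x * (b * k * b⁻¹) * x⁻¹ := by rw [hby k hk]
      _ = a * (b * k * b⁻¹) * a⁻¹ := h1
      _ = a * b * k * (b⁻¹ * a⁻¹) := by group
  | inv x _ hx =>
    obtain ⟨a, ha, hax⟩ := hx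
    refine ⟨a⁻¹, inv_mem ha, fun k hk => ?_⟩
    have h1 := hax _ (mul_mem (mul_mem (inv_mem ha) hk) ha)
    calc x⁻¹ * k * (x⁻¹)⁻¹ = x⁻¹ * (a * (a⁻¹ * k * a) * a⁻¹) * (x⁻¹)⁻¹ := by group
      _ = x⁻¹ * (x * (a⁻¹ * k * a) * x⁻¹) * (x⁻¹)⁻¹ := by rw [h1]
      _ = a⁻¹ * k * (a⁻¹)⁻¹ := by group

theorem sec_card [Finite G] (ht : orderOf t = 2) :
    Nat.card ↥(centralizer ({t} : Set G)) = 2 * Nat.card ↥K := by
  obtain ⟨hle₁, hle₂, hcomm, hdisj, hsup⟩ := hK
  let f : ↥(zpowers t) × ↥K → ↥(centralizer ({t} : Set G)) :=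
    fun p => ⟨(p.1 : G) * p.2, mul_mem (hle₁ p.1.2) (hle₂ p.2.2)⟩
  have hinj : Function.Injective f := fun p r e => by
    have he : (p.1 : G) * p.2 = r.1 * r.2 := congrArg Subtype.val e
    have h1 : (r.1 : G)⁻¹ * p.1 ∈ zpowers t ⊓ K := by
      refine Subgroup.mem_inf.2 ⟨mul_mem (inv_mem r.1.2) p.1.2, ?_⟩
      rw [show (r.1 : G)⁻¹ * p.1 = r.2 * (p.2 : G)⁻¹ by
        rw [eq_mul_inv_iff_mul_eq, mul_assoc, he, inv_mul_cancel_left]]
      exact mul_mem r.2.2 (inv_mem p.2.2)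
    rw [hdisj, mem_bot, inv_mul_eq_one] at h1
    rw [h1] at he
    exact Prod.ext (Subtype.ext h1.symm) (Subtype.ext (mul_left_cancel he))
  have hsurj : Function.Surjective f := fun x => by
    have hx : (x : G) ∈ zpowers t ⊔ K := by rw [hsup]; exact x.2
    rw [Subgroup.sup_eq_closure] at hx
    suffices ∃ p : ↥(zpowers t) × ↥K, (p.1 : G) * p.2 = (x : G) by
      obtain ⟨p, hp⟩ := this
      exact ⟨p, Subtype.ext hp⟩
    revert hx
    generalize (x : G) = g
    intro hx
    induction hx using Subgroup.closure_induction with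
    | mem y hy =>
      rcases hy with hy | hy
      · exact ⟨(⟨y, hy⟩, 1), by simp⟩
      · exact ⟨(1, ⟨y, hy⟩), by simp⟩
    | one => exact ⟨(1, 1), by simp⟩
    | mul y z _ _ hy hz =>
      obtain ⟨p, rfl⟩ := hy
      obtain ⟨r, rfl⟩ := hz
      refine ⟨(p.1 * r.1, p.2 * r.2), ?_⟩
      simp only [Subgroup.coe_mul]
      rw [mul_assoc, ← mul_assoc (r.1 : G), hcomm _ r.1.2 _ p.2.2]
      group
    | inv y _ hy =>
      obtain ⟨p, rfl⟩ := hy
      refine ⟨(p.1⁻¹, p.2⁻¹), ?_⟩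
      simp only [Subgroup.coe_inv, mul_inv_rev]
      exact hcomm _ (inv_mem p.1.2) _ (inv_mem p.2.2)
  rw [← Nat.card_congr (Equiv.ofBijective f ⟨hinj, hsurj⟩), Nat.card_prod, Nat.card_zpowers, ht]

end

variable [Fintype G] {t : G} {K : Subgroup G} [Fintype ↥K]

/-- The coefficient of a generalised character is an integer. -/
theorem exists_secCoeff_int
    (hK : Cfsg.IsInternalDirectProduct (zpowers t) K (centralizer ({t} : Set G)))
    (ht : orderOf t = 2) (χ : Cfsg.IrrCharacter G) {φ : ↥K → ℂ}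
    (hφ : Cfsg.IsGeneralizedCharacter ↥K φ) : ∃ z : ℤ, secCoeff t K (χ : G → ℂ) φ = z := by
  have hu : t * t = 1 := by rw [← pow_two, ← ht, pow_orderOf_eq_one]
  refine Characters.Generalized.exists_classInner_int
    (Characters.Generalized.of_classInner_int (fun k l => ?_) fun θ => ?_) hφ
  · rw [show t * ((l * k * l⁻¹ : ↥K) : G) = (l : G) * (t * (k : G)) * (l : G)⁻¹ by
      simp only [Subgroup.coe_mul, Subgroup.coe_inv]
      rw [← mul_assoc, ← mul_assoc, ← sec_comm hK l.2]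
      group]
    exact isClassFunction_irr χ _ _
  · obtain ⟨A, B, -, hB⟩ :=
      GorensteinWalter.Four.mult_split hu (fun k hk => sec_comm hK hk) χ θ
    exact ⟨(A : ℤ) - B, by rw [hB]; push_cast; ring⟩

/-- The pairing of two functions on the section. -/
theorem sum_secCoeff_mul [Fintype (Cfsg.IrrCharacter G)]
    (hK : Cfsg.IsInternalDirectProduct (zpowers t) K (centralizer ({t} : Set G)))
    (ht : orderOf t = 2) {φ ψ : ↥K → ℂ} (hφ : Cfsg.IsClassFunction ↥K φ)
    (hφ0 : OddSupport φ) (hψ0 : OddSupport ψ) :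
    ∑ χ : Cfsg.IrrCharacter G, secCoeff t K (χ : G → ℂ) φ * conj (secCoeff t K (χ : G → ℂ) ψ) =
      2 * Cfsg.classInner ψ φ := by
  classical
  haveI : Fact (Nat.Prime 2) := ⟨Nat.prime_two⟩
  set C := centralizer (zpowers t : Set G) with hC
  letI := Fintype.ofFinite ↥C
  have hCt : C = centralizer ({t} : Set G) := by
    rw [hC, Subgroup.zpowers_eq_closure, Subgroup.centralizer_closure]
  have key : ∀ a b : ↥K, conj (φ a) * ψ b * ∑ χ : Cfsg.IrrCharacter G,
      (χ : G → ℂ) (t * (a : G)) * conj ((χ : G → ℂ) (t * (b : G))) =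
      ∑ v : ↥C, if (a : G) = (v : G) * b * (v : G)⁻¹ then conj (φ a) * ψ b else 0 := by
    intro a b
    by_cases ha : 2 ∣ orderOf (a : G)
    · rw [hφ0 a ha]; simp
    by_cases hb : 2 ∣ orderOf (b : G)
    · rw [hψ0 b hb]; simp
    have e : ∀ χ : Cfsg.IrrCharacter G, conj ((χ : G → ℂ) (t * (b : G))) =
        (χ : G → ℂ) (t⁻¹ * (b : G)⁻¹) := fun χ => by
      rw [← apply_inv (isCharacter_irr χ), mul_inv_rev,
        (show Commute (b : G) t from sec_comm hK b.2).inv_inv.eq]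
    simp only [e]
    rw [Blocks.SectionPart.sum_sect_mul (p := 2) ⟨1, by rw [ht, pow_one]⟩ hC
      ⟨a, hCt ▸ sec_mem hK a.2⟩ ⟨b, hCt ▸ sec_mem hK b.2⟩ ha hb, Finset.mul_sum]
    refine Finset.sum_congr rfl fun v _ => ?_
    rw [mul_ite, mul_one, mul_zero]
    refine if_congr ⟨fun h => congrArg Subtype.val h, fun h => Subtype.ext h⟩ rfl rfl
  have inner : ∀ (v : ↥C) (b : ↥K),
      ∑ a : ↥K, (if (a : G) = (v : G) * b * (v : G)⁻¹ then conj (φ a) * ψ b else 0) =
        conj (φ b) * ψ b := by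
    intro v b
    obtain ⟨w, hw, hwv⟩ := sec_exists_conj hK (hCt ▸ v.2 : (v : G) ∈ centralizer ({t} : Set G))
    rw [hwv b b.2, Finset.sum_eq_single (⟨w, hw⟩ * b * (⟨w, hw⟩ : ↥K)⁻¹)]
    · rw [if_pos (by simp), hφ]
    · exact fun a _ ha => if_neg fun h => ha (Subtype.ext h)
    · exact fun h => absurd (Finset.mem_univ _) h
  have hN : (Nat.card ↥K : ℂ) ≠ 0 := Nat.cast_ne_zero.2 Nat.card_pos.ne'
  have expand : ∀ χ : Cfsg.IrrCharacter G,
      secCoeff t K (χ : G → ℂ) φ * conj (secCoeff t K (χ : G → ℂ) ψ) =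
        ((Nat.card ↥K : ℂ)⁻¹ * (Nat.card ↥K : ℂ)⁻¹) * ∑ a : ↥K, ∑ b : ↥K, conj (φ a) * ψ b *
          ((χ : G → ℂ) (t * (a : G)) * conj ((χ : G → ℂ) (t * (b : G)))) := by
    intro χ
    simp only [secCoeff, Cfsg.classInner, map_mul, map_inv₀, map_natCast, map_sum,
      Complex.conj_conj]
    rw [mul_mul_mul_comm, Finset.sum_mul_sum]
    exact congrArg _ (Finset.sum_congr rfl fun a _ => Finset.sum_congr rfl fun b _ => by ring)
  rw [Finset.sum_congr rfl fun χ _ => expand χ, ← Finset.mul_sum, Finset.sum_comm,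
    Finset.sum_congr rfl fun a _ => Finset.sum_comm]
  simp only [← Finset.mul_sum, key]
  rw [Finset.sum_comm, Finset.sum_congr rfl fun b _ => Finset.sum_comm,
    Finset.sum_congr rfl fun b _ => Finset.sum_congr rfl fun v _ => inner v b]
  simp only [Finset.sum_const, Finset.card_univ, nsmul_eq_mul]
  rw [← Nat.card_eq_fintype_card, show Nat.card ↥C = 2 * Nat.card ↥K by rw [hCt, sec_card hK ht],
    ← Finset.mul_sum, Cfsg.classInner, Finset.sum_congr rfl fun b _ => mul_comm (conj (φ b)) (ψ b)]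
  push_cast
  field_simp

end Cfsg.Agent.Lib.Walter.NoField
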