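import Cfsg.Agent.Lib.Walter.NoField.Local
import Cfsg.Agent.Lib.Fusion.Thompson

/-!
# Section Z, part A: transfer to `F`

`C(u) = (⟨u⟩ × E₀) F`, so the transfer of `G` into `C(u)` composed with the projection to the
abelian group `F` is trivial.  An element `x` of `F` is conjugate in `C(u)` to every of its
`G`-conjugates lying there, hence its transfer is `x ^ [G : C(u)]`; counting the fixed cosets
turns this into the divisibility of `[C(x) : C(u, x)]`.

Owner: helper47.
-/

set_option autoImplicit false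
set_option linter.unusedSectionVars false
set_option linter.style.haveILetI false

universe u

namespace Cfsg.Agent.Lib.Walter.NoField

open Subgroup Walter66

variable {G : Type u} [Group G] [Finite G]

namespace Ctx

variable {S : Sylow 2 G} {u : G} {E E₀ : Subgroup G} (C : Ctx S u E E₀)
include C

theorem fieldPart_le_centralizer_u : fieldPart S ≤ centralizer ({u} : Set G) := fun _ hx =>
  mem_centralizer_singleton_iff.2 (C.comm_u hx)

theorem exists_decomp_M {c : G} (hc : c ∈ centralizer ({u} : Set G)) :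
    ∃ m ∈ zpowers u ⊔ E₀, ∃ f ∈ fieldPart S, c = m * f := by
  obtain ⟨e, he, hce⟩ := C.conf.decomp c (mem_centralizer_singleton_iff.1 hc)
  obtain ⟨h, hh, f, hf, rfl⟩ := C.exists_mul he
  rcases hce with rfl | rfl
  · exact ⟨h, mem_sup_right hh, f, hf, rfl⟩
  · exact ⟨u * h, mul_mem (mem_sup_left (mem_zpowers u)) (mem_sup_right hh), f, hf,
      (mul_assoc u h f).symm⟩

/-- The projection of `C(u)` onto `F`. -/
theorem exists_proj :
    ∃ φ : ↥(centralizer ({u} : Set G)) →* ↥(fieldPart S),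
      ∀ x : ↥(fieldPart S), φ ⟨x, C.fieldPart_le_centralizer_u x.2⟩ = x := by
  set H := centralizer ({u} : Set G) with hH
  set M := zpowers u ⊔ E₀ with hM
  have hE₀H : E₀ ≤ H := fun e he => mem_centralizer_singleton_iff.2 (C.mem_cent e (C.conf.le he))
  have hMH : M ≤ H := sup_le (zpowers_le.2 (mem_centralizer_singleton_iff.2 rfl)) hE₀H
  have hnM : H ≤ normalizer (M : Set G) := by
    intro c hc
    have key : ∀ d ∈ H, ∀ y ∈ M, d * y * d⁻¹ ∈ M := by
      intro d hd y hy
      have hdu : d * u = u * d := mem_centralizer_singleton_iff.1 hd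
      have hle : M.map (MulAut.conj d).toMonoidHom ≤ M := by
        rw [hM, Subgroup.map_sup]
        refine sup_le ?_ ?_
        · rw [MonoidHom.map_zpowers, zpowers_le]
          show d * u * d⁻¹ ∈ _
          rw [hdu, mul_inv_cancel_right]
          exact mem_sup_left (mem_zpowers u)
        · rintro _ ⟨z, hz, rfl⟩
          exact mem_sup_right (C.conf.conj_E₀ hdu hz)
      exact hle ⟨y, hy, rfl⟩
    refine mem_normalizer_iff.2 fun y => ⟨key c hc y, fun hy => ?_⟩
    have := key c⁻¹ (inv_mem hc) _ hy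
    simpa [mul_assoc] using this
  have hinf : ∀ x ∈ M, x ∈ fieldPart S → x = 1 := by
    intro x hx hxF
    have hu : zpowers u ≤ normalizer (E₀ : Set G) := by
      refine zpowers_le.2 (mem_normalizer_iff.2 fun y => ⟨fun hy => C.conf.conj_E₀ rfl hy,
        fun hy => ?_⟩)
      have := C.conf.conj_E₀ (c := u⁻¹) (by group) hy
      simpa [mul_assoc] using this
    rw [hM, ← SetLike.mem_coe, coe_mul_of_left_le_normalizer_right _ _ hu] at hx
    obtain ⟨z, hz, e, he, rfl⟩ := hx
    have hzE : z ∈ E := ((E.mul_mem_cancel_right (C.conf.le he)).1 (C.fieldPart_le hxF))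
    have hz1 : z ∈ zpowers u ⊓ E := ⟨hz, hzE⟩
    rw [C.cent.1.2.2.2.1, mem_bot] at hz1
    subst hz1
    simp only [one_mul] at hxF ⊢
    have h1 : e ∈ fieldPart S ⊓ E₀ := ⟨hxF, he⟩
    rwa [C.fieldPart_inf, mem_bot] at h1
  haveI : (M.subgroupOf H).Normal := (Subgroup.normal_subgroupOf_iff_le_normalizer hMH).2 hnM
  let h : ↥(fieldPart S) →* ↥H ⧸ M.subgroupOf H :=
    (QuotientGroup.mk' (M.subgroupOf H)).comp (Subgroup.inclusion C.fieldPart_le_centralizer_u)
  have hb : Function.Bijective h := by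
    constructor
    · refine (injective_iff_map_eq_one h).2 fun x hx => Subtype.ext (hinf x ?_ x.2)
      exact mem_subgroupOf.1
        ((QuotientGroup.eq_one_iff (Subgroup.inclusion C.fieldPart_le_centralizer_u x)).1 hx)
    · intro q
      obtain ⟨⟨n, hn⟩, rfl⟩ := QuotientGroup.mk_surjective q
      obtain ⟨y, hy, x, hx, rfl⟩ := C.exists_decomp_M hn
      refine ⟨⟨x, hx⟩, ?_⟩
      have e : (⟨y * x, hn⟩ : ↥H) =
          (⟨y, hMH hy⟩ : ↥H) * Subgroup.inclusion C.fieldPart_le_centralizer_u ⟨x, hx⟩ := rfl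
      show ((Subgroup.inclusion C.fieldPart_le_centralizer_u ⟨x, hx⟩ : ↥H) :
        ↥H ⧸ M.subgroupOf H) = _
      rw [e, QuotientGroup.mk_mul,
        (QuotientGroup.eq_one_iff (⟨y, hMH hy⟩ : ↥H)).2 (mem_subgroupOf.2 hy), one_mul]
  exact ⟨(MulEquiv.ofBijective h hb).symm.toMonoidHom.comp (QuotientGroup.mk' _),
    fun x => (MulEquiv.ofBijective h hb).symm_apply_eq.2 rfl⟩

/-- An element of `C(u)` is carried by `C(u)` onto the element of `F` it is conjugate to: if
`c⁻¹ y c` commutes with `u`, then `c ∈ C(y) N(S) C(u)`. -/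
theorem exists_factor {y c : G} (hy : y ∈ fieldPart S)
    (hc : c⁻¹ * y * c ∈ centralizer ({u} : Set G)) :
    ∃ d n h : G, d * y = y * d ∧ n ∈ normalizer ((S : Subgroup G) : Set G) ∧
      h ∈ centralizer ({u} : Set G) ∧ c = d * n * h := by
  haveI : Fact (Nat.Prime 2) := ⟨Nat.prime_two⟩
  set D := centralizer ({y} : Set G) with hD
  have hS : (S : Subgroup G) ≤ D := fun s hs =>
    mem_centralizer_singleton_iff.2 (comm_fieldPart_sylow hy hs).symm
  set v := c * u * c⁻¹ with hv
  have hvD : v ∈ D := mem_centralizer_singleton_iff.2 (by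
    have h1 := mem_centralizer_singleton_iff.1 hc
    calc v * y = c * (u * (c⁻¹ * y * c)) * c⁻¹ := by rw [hv]; group
      _ = c * (c⁻¹ * y * c * u) * c⁻¹ := by rw [h1]
      _ = y * v := by rw [hv]; group)
  have hv2 : orderOf v = 2 := by rw [hv, Involutions.Basic.orderOf_conj_eq]; exact C.ord
  have hp : IsPGroup 2 (zpowers (⟨v, hvD⟩ : D)) :=
    IsPGroup.of_card (n := 1) (by rw [Nat.card_zpowers, Subgroup.orderOf_mk, hv2, pow_one])
  obtain ⟨P, hP⟩ := hp.exists_le_sylow
  obtain ⟨d, hd⟩ := MulAction.exists_smul_eq D P (S.subtype hS)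
  have hs : (d : G) * v * (d : G)⁻¹ ∈ (S : Subgroup G) := by
    have h1 : d * (⟨v, hvD⟩ : D) * d⁻¹ ∈ (S.subtype hS : Subgroup D) := by
      rw [← hd, Sylow.coe_subgroup_smul]
      exact Subgroup.smul_mem_pointwise_smul (a := MulAut.conj d) (⟨v, hvD⟩ : D) _
        (hP (mem_zpowers _))
    rw [Sylow.coe_subtype] at h1
    exact mem_subgroupOf.1 h1
  have hs1 : (d : G) * v * (d : G)⁻¹ ≠ 1 := fun h => by
    have := conj_eq_one_iff.1 h
    rw [this, orderOf_one] at hv2
    omega
  obtain ⟨n, hn, hnu⟩ := C.exists_conj_of_mem C.mem C.ne_one hs hs1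
  refine ⟨(d : G)⁻¹, n, n⁻¹ * (d : G) * c, ?_, hn, ?_, by group⟩
  · exact (Commute.inv_left (mem_centralizer_singleton_iff.1 d.2)).eq
  · refine mem_centralizer_singleton_iff.2 ?_
    calc n⁻¹ * (d : G) * c * u = n⁻¹ * ((d : G) * v * (d : G)⁻¹) * (d : G) * c := by rw [hv]; group
      _ = n⁻¹ * (n * u * n⁻¹) * (d : G) * c := by rw [hnu]
      _ = u * (n⁻¹ * (d : G) * c) := by group

theorem not_comm : ¬ IsMulCommutative G := fun h => by
  obtain ⟨a, b, r, T, ha, hb⟩ := C.exists_tri
  have h1 := T.ca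
  rw [h.is_comm.comm r a, mul_inv_cancel_right] at h1
  exact ne_one_of_ord T.hb (mul_left_cancel (a := a) (h1.symm.trans (mul_one a).symm))

/-- Transfer: `x ^ [G : C(u)] = 1` for `x ∈ F`. -/
theorem pow_index_eq_one {x : G} (hx : x ∈ fieldPart S) :
    x ^ (centralizer ({u} : Set G)).index = 1 := by
  obtain ⟨φ, hφ⟩ := C.exists_proj
  letI : CommGroup ↥(fieldPart S) :=
    { (inferInstance : Group ↥(fieldPart S)) with
      mul_comm := fun a b => Subtype.ext (C.comm_fieldPart a.2 b.2) }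
  have hxH := C.fieldPart_le_centralizer_u hx
  have hctrl : ∀ (m : ℕ) (a : G) (h : a * x ^ m * a⁻¹ ∈ centralizer ({u} : Set G)),
      φ ⟨a * x ^ m * a⁻¹, h⟩ = φ ⟨x, hxH⟩ ^ m := by
    intro m a h
    have hy : x ^ m ∈ fieldPart S := pow_mem hx m
    obtain ⟨d, n, k, hd, hn, hk, e⟩ := C.exists_factor (c := a⁻¹) hy (by rwa [inv_inv])
    have ha : a = k⁻¹ * n⁻¹ * d⁻¹ := by
      rw [← inv_inv a, e]; group
    have e2 : a * x ^ m * a⁻¹ = k⁻¹ * x ^ m * k := by
      rw [ha]
      calc k⁻¹ * n⁻¹ * d⁻¹ * x ^ m * (k⁻¹ * n⁻¹ * d⁻¹)⁻¹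
          = k⁻¹ * n⁻¹ * (d⁻¹ * x ^ m * d) * n * k := by group
        _ = k⁻¹ * n⁻¹ * x ^ m * n * k := by rw [mul_assoc d⁻¹, ← hd, inv_mul_cancel_left]
        _ = k⁻¹ * (n⁻¹ * (x ^ m * n)) * k := by group
        _ = k⁻¹ * x ^ m * k := by rw [← C.comm_normalizer hn hy, inv_mul_cancel_left]
    have e3 : (⟨a * x ^ m * a⁻¹, h⟩ : ↥(centralizer ({u} : Set G))) =
        ⟨k, hk⟩⁻¹ * ⟨x, hxH⟩ ^ m * ⟨k, hk⟩ := Subtype.ext (by simpa using e2)
    rw [e3, map_mul, map_mul, map_inv, map_pow, mul_right_comm, inv_mul_cancel, one_mul]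
  have htr := Fusion.Thompson.transfer_controlled φ x hxH hctrl
  haveI := C.jr.simple
  have hker : (MonoidHom.transfer φ).ker = ⊤ := by
    rcases Subgroup.Normal.eq_bot_or_eq_top
      (inferInstance : ((MonoidHom.transfer φ).ker).Normal) with h | h
    · refine absurd ⟨⟨fun a b => ?_⟩⟩ C.not_comm
      refine (MonoidHom.ker_eq_bot_iff _).1 h ?_
      rw [map_mul, map_mul, mul_comm]
    · exact h
  have h1 : MonoidHom.transfer φ x = 1 := MonoidHom.mem_ker.1 (hker ▸ mem_top x)
  rw [h1, hφ ⟨x, hx⟩] at htr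
  exact (congrArg Subtype.val htr).symm.trans rfl

/-- Part A: a prime order element `x` of `F` has `l ∣ [C(x) : C(x, u)]`. -/
theorem prime_dvd_relIndex {x : G} (hx : x ∈ fieldPart S) {l : ℕ} (hl : l.Prime)
    (hord : orderOf x = l) :
    l ∣ (centralizer ({x, u} : Set G)).relIndex (centralizer ({x} : Set G)) := by
  haveI : Fact l.Prime := ⟨hl⟩
  set H := centralizer ({u} : Set G) with hH
  set D := centralizer ({x} : Set G) with hD
  have hxD : x ∈ D := mem_centralizer_singleton_iff.2 rfl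
  have hidx : l ∣ H.index := hord ▸ orderOf_dvd_of_pow_eq_one (C.pow_index_eq_one hx)
  have hP : IsPGroup l (zpowers x) :=
    IsPGroup.of_card (n := 1) (by rw [Nat.card_zpowers, hord, pow_one])
  have hmod := hP.card_modEq_card_fixedPoints (G ⧸ H)
  have hfix : MulAction.fixedPoints (zpowers x) (G ⧸ H) =
      Set.range fun d : ↥D => ((d : G) : G ⧸ H) := by
    ext q
    constructor
    · intro hq
      obtain ⟨c, rfl⟩ := QuotientGroup.mk_surjective q
      have h1 : ((x * c : G) : G ⧸ H) = (c : G ⧸ H) := hq ⟨x, mem_zpowers x⟩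
      have h2 : c⁻¹ * x * c ∈ H := by
        have := QuotientGroup.eq.1 h1.symm
        rwa [mul_assoc]
      obtain ⟨d, n, h, hd, hn, hh, rfl⟩ := C.exists_factor hx h2
      refine ⟨⟨d * n, mem_centralizer_singleton_iff.2 ?_⟩, ?_⟩
      · exact ((show Commute d x from hd).mul_left (C.comm_normalizer hn hx)).eq
      · refine QuotientGroup.eq.2 ?_
        rwa [inv_mul_cancel_left]
    · rintro ⟨d, rfl⟩ ⟨z, hz⟩
      refine QuotientGroup.eq.2 ?_
      have hdx : (d : G) * z = z * (d : G) := by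
        obtain ⟨k, rfl⟩ := hz
        exact ((show Commute (d : G) x from mem_centralizer_singleton_iff.1 d.2).zpow_right k).eq
      show (z * (d : G))⁻¹ * (d : G) ∈ H
      rw [← hdx, mul_inv_rev, inv_mul_cancel_right]
      exact inv_mem (C.fieldPart_le_centralizer_u ((zpowers_le.2 hx) hz))
  have hcard : Nat.card (MulAction.fixedPoints (zpowers x) (G ⧸ H)) =
      (H.subgroupOf D).index := by
    rw [hfix]
    refine (Nat.card_congr (Equiv.ofBijective
      (fun q : ↥D ⧸ H.subgroupOf D => (⟨Quotient.liftOn' q (fun d => ((d : G) : G ⧸ H))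
        (fun a b hab => QuotientGroup.eq.2 (mem_subgroupOf.1 (QuotientGroup.leftRel_apply.1 hab))),
        by induction q using QuotientGroup.induction_on with | H d => exact ⟨d, rfl⟩⟩ :
        Set.range fun d : ↥D => ((d : G) : G ⧸ H))) ⟨?_, ?_⟩)).symm
    · intro a b
      induction a using QuotientGroup.induction_on with | H a => ?_
      induction b using QuotientGroup.induction_on with | H b => ?_
      intro h
      exact QuotientGroup.eq.2 (mem_subgroupOf.2 (QuotientGroup.eq.1 (congrArg Subtype.val h)))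
    · rintro ⟨_, d, rfl⟩
      exact ⟨(d : ↥D ⧸ H.subgroupOf D), rfl⟩
  have hinf : (centralizer ({x, u} : Set G)).subgroupOf D = H.subgroupOf D := by
    ext d
    simp only [mem_subgroupOf]
    constructor
    · exact fun h => mem_centralizer_singleton_iff.2 (mem_centralizer_pair.1 h).2
    · exact fun h => mem_centralizer_pair.2
        ⟨mem_centralizer_singleton_iff.1 d.2, mem_centralizer_singleton_iff.1 h⟩
  show l ∣ ((centralizer ({x, u} : Set G)).subgroupOf D).index
  rw [hinf, ← hcard]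
  exact (Nat.modEq_zero_iff_dvd).1 (hmod.symm.trans (Nat.modEq_zero_iff_dvd.2 hidx))

end Ctx

end Cfsg.Agent.Lib.Walter.NoField
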