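import Cfsg.Agent.Lib.Walter.NoField.InterfaceV3
import Cfsg.Agent.Lib.Walter.NoField.Small.Index

/-!
# Section Z: every prime of `|F|` is three in characteristic three, or bad

`propGood`, from `Ctx.prime_dvd_relIndex` and `Small.relIndex_cases`.

Owner: helper87.
-/

set_option autoImplicit false
set_option linter.style.haveILetI false
set_option linter.unusedSectionVars false

universe u

namespace Cfsg.Agent.Lib.Walter.NoField

open Subgroup

namespace Small

/-- `PSL(2, q)` determines `q`, apart from `q = 4, 5`. -/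
theorem card_eq_of_equiv {X : Type u} [Group X] {F F' : Type} [Field F] [Fintype F] [Field F']
    [Fintype F'] (hq : Odd (Fintype.card F)) (h7 : 7 ≤ Fintype.card F)
    (e : X ≃* Matrix.ProjectiveSpecialLinearGroup (Fin 2) F)
    (e' : X ≃* Matrix.ProjectiveSpecialLinearGroup (Fin 2) F')
    (h4 : ∀ P : Sylow 2 X, Nat.card ↥(P : Subgroup X) = 4) :
    Fintype.card F' = Fintype.card F := by
  haveI : Fact (Nat.Prime 2) := ⟨Nat.prime_two⟩
  haveI : Finite X := Finite.of_equiv _ e.symm.toEquiv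
  have h2 := Linear.two_mul_card_PSL_two_of_odd (F := F) hq
  rw [← Nat.card_congr e.toEquiv] at h2
  have hmono : ∀ {a b : ℕ}, a < b → 2 ≤ a → a * (a - 1) * (a + 1) < b * (b - 1) * (b + 1) :=
    fun {a b} hab ha => Nat.mul_lt_mul_of_lt_of_le
      (Nat.mul_lt_mul_of_lt_of_le hab (by omega) (by omega)) (by omega) (by omega)
  rcases Nat.even_or_odd (Fintype.card F') with hev | hodd
  · exfalso
    have h' := Linear.card_PSL_two_of_even (F := F') hev
    rw [← Nat.card_congr e'.toEquiv] at h'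
    obtain ⟨p, hp⟩ := CharP.exists F'
    haveI := hp
    obtain ⟨k, hpp, hk⟩ := FiniteField.card F' p
    have hp2 : p = 2 := by
      rw [hk, Nat.even_pow] at hev
      rcases hpp.eq_two_or_odd' with h | h
      · exact h
      · exact absurd hev.1 (Nat.not_even_iff_odd.2 h)
    subst hp2
    obtain ⟨P⟩ : Nonempty (Sylow 2 X) := inferInstance
    have hk2 : (k : ℕ) ≤ 2 := by
      by_contra hlt
      have h8 : 2 ^ 3 ∣ Nat.card X := by
        rw [h']
        refine dvd_trans ?_ ((dvd_mul_right _ _).trans (dvd_mul_right _ _))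
        rw [hk]
        exact pow_dvd_pow 2 (by omega)
      have := P.pow_dvd_card_of_pow_dvd_card h8
      rw [h4 P] at this
      norm_num at this
    have hle : Fintype.card F' ≤ 4 := by
      rw [hk]
      exact (Nat.pow_le_pow_right two_pos hk2).trans (by norm_num)
    have hbig : 7 * 6 * 8 ≤ Fintype.card F * (Fintype.card F - 1) * (Fintype.card F + 1) :=
      Nat.mul_le_mul (Nat.mul_le_mul h7 (by omega)) (by omega)
    have hsmall : Nat.card X ≤ 4 * (4 - 1) * (4 + 1) := by
      rw [h']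
      exact Nat.mul_le_mul (Nat.mul_le_mul hle (by omega)) (by omega)
    omega
  · have h' := Linear.two_mul_card_PSL_two_of_odd (F := F') hodd
    rw [← Nat.card_congr e'.toEquiv, h2] at h'
    have h0 : 2 ≤ Fintype.card F := Fintype.one_lt_card
    have h0' : 2 ≤ Fintype.card F' := Fintype.one_lt_card
    rcases lt_trichotomy (Fintype.card F') (Fintype.card F) with h | h | h
    · exact absurd h'.symm (hmono h h0').ne
    · exact h
    · exact absurd h' (hmono h h0).ne

/-- With the field of `E₀` given. -/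
theorem relIndex_cases_of_equiv (hK : PropKnown.{u}) (hL : PropKnownFacts.{u}) (hO : PropOrder.{u})
    {G : Type u} [Group G] [Finite G] {S : Sylow 2 G} {t : G} {E E₀ : Subgroup G}
    (hIH : SmallerNoField G) (C : Ctx S t E E₀) {x : G} (hx : x ∈ fieldPart S) (hx1 : x ≠ 1)
    {F : Type} [Field F] [Fintype F] (e : ↥E₀ ≃* Matrix.ProjectiveSpecialLinearGroup (Fin 2) F) :
    ∃ q₀ : ℕ, Fintype.card F = q₀ ^ orderOf x ∧
      2 * Nat.card ↥(E₀ ⊓ centralizer ({x} : Set G)) = q₀ * (q₀ - 1) * (q₀ + 1) ∧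
      ((q₀ = 3 ∧ ((centralizer ({x, t} : Set G)).relIndex (centralizer ({x} : Set G)) = 7 ∨
          (centralizer ({x, t} : Set G)).relIndex (centralizer ({x} : Set G)) = 63)) ∨
        (q₀ = 5 ∧ (centralizer ({x, t} : Set G)).relIndex (centralizer ({x} : Set G)) = 1463) ∨
        (∃ k : ℕ, 1 ≤ k ∧ q₀ = 3 ^ (2 * k + 1) ∧
          (centralizer ({x, t} : Set G)).relIndex (centralizer ({x} : Set G)) =
            q₀ ^ 2 * (q₀ ^ 2 - q₀ + 1))) := by
  obtain ⟨F', i1, i2, q₀, ⟨e'⟩, hq, hL2, hc⟩ := relIndex_cases hK hL hO hIH C hx hx1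
  refine ⟨q₀, ?_, hL2, hc⟩
  rw [← hq]
  have h3 : 3 ≤ orderOf x := by
    have h1 : orderOf x ≠ 1 := fun h => hx1 (orderOf_eq_one_iff.1 h)
    obtain ⟨j, hj⟩ := odd_orderOf_mem (odd_fieldPart S) hx
    omega
  have hq0 : 3 ≤ q₀ ∧ Odd q₀ := by
    rcases hc with ⟨h, -⟩ | ⟨h, -⟩ | ⟨k, -, h, -⟩
    · exact ⟨h.ge, h ▸ by decide⟩
    · exact ⟨by omega, h ▸ by decide⟩
    · exact ⟨h ▸ (Nat.le_self_pow (by omega) 3), h ▸ (show Odd 3 by decide).pow⟩
  refine card_eq_of_equiv (hq ▸ hq0.2.pow) ?_ e' e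
    (hL.2 _ C.cent.2.2.2.2.1).four
  rw [hq]
  calc 7 ≤ 3 ^ 3 := by norm_num
    _ ≤ q₀ ^ 3 := Nat.pow_le_pow_left hq0.1 3
    _ ≤ q₀ ^ orderOf x := Nat.pow_le_pow_right (by omega) h3

end Small

/-- Every prime of `|F|` is three in characteristic three, or bad. -/
theorem propGood : PropGood.{u} := by
  intro hK hL hO G _ _ S t E E₀ C hIH x hx l hl hxl F _ _ hF
  obtain ⟨e⟩ := hF
  have hx1 : x ≠ 1 := fun h => hl.one_lt.ne (by rw [← hxl, h, orderOf_one])
  obtain ⟨q₀, hq, -, hc⟩ := Small.relIndex_cases_of_equiv hK hL hO hIH C hx hx1 e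
  rw [hxl] at hq
  refine ⟨q₀, hq, ?_⟩
  have hdvd := C.prime_dvd_relIndex hx hl hxl
  have hl2 : l ≠ 2 := by
    intro h
    have := odd_orderOf_mem (odd_fieldPart S) hx
    rw [hxl, h] at this
    exact absurd this (by decide)
  rcases hc with ⟨h3, hr | hr⟩ | ⟨h5, hr⟩ | ⟨k, hk, hqk, hr⟩ <;> rw [hr] at hdvd
  · have := (Nat.prime_dvd_prime_iff_eq hl (by norm_num)).1 hdvd
    subst this h3
    exact Or.inr ⟨by norm_num, by norm_num [badNum]⟩
  · rcases (hl.dvd_mul.1 (show l ∣ 3 ^ 2 * 7 by norm_num; exact hdvd)) with h | h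
    · have := (Nat.prime_dvd_prime_iff_eq hl (by norm_num)).1 (hl.dvd_of_dvd_pow h)
      exact Or.inl ⟨this, h3 ▸ dvd_rfl⟩
    · have := (Nat.prime_dvd_prime_iff_eq hl (by norm_num)).1 h
      subst this h3
      exact Or.inr ⟨by norm_num, by norm_num [badNum]⟩
  · have h : 5 ≤ l := by
      by_contra hlt
      have := hl.two_le
      interval_cases l
      · exact hl2 rfl
      · norm_num at hdvd
      · norm_num at hl
    refine Or.inr ⟨h, ?_⟩
    rw [badNum, if_pos h5]
    exact hdvd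
  · have h3q : 3 ∣ q₀ := hqk ▸ dvd_pow_self 3 (by omega)
    rcases hl.dvd_mul.1 hdvd with h | h
    · have h' := hl.dvd_of_dvd_pow h
      rw [hqk] at h'
      have := (Nat.prime_dvd_prime_iff_eq hl Nat.prime_three).1 (hl.dvd_of_dvd_pow h')
      exact Or.inl ⟨this, h3q⟩
    · have h5 : q₀ ≠ 5 := fun h5 => by rw [h5] at h3q; norm_num at h3q
      refine Or.inr ⟨?_, by rw [badNum, if_neg h5]; exact h⟩
      by_contra hlt
      obtain rfl : l = 3 := by
        have := hl.two_le
        interval_cases l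
        · exact absurd rfl hl2
        · rfl
        · norm_num at hl
      have hsub : 3 ∣ q₀ ^ 2 - q₀ := Nat.dvd_sub (dvd_pow h3q two_ne_zero) h3q
      exact absurd ((Nat.dvd_add_right hsub).1 h) (by norm_num)

end Cfsg.Agent.Lib.Walter.NoField
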