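import Cfsg.Agent.Lib.Walter.NoField.Interface

/-!
# Section Z: the reduction to bad primes (plan v3)

Captain: helper37 (`notes/walter_nofield.md`, "Plan v3").

* `PropThree` : `q = 3 ^ f` and `3 ∣ |F|` is impossible (helper37).
* `PropGood`  : every prime of `|F|` is bad: the transfer of `G` to `F` (helper87).
* `PropBigBad`, `PropSmallBad` : all primes bad, at least five.
-/

set_option autoImplicit false
set_option linter.style.haveILetI false

universe u

namespace Cfsg.Agent.Lib.Walter.NoField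

open Subgroup

/-- The part of `|C(x) : C(x, t)|` prime to six, by the order of the fixed field. -/
def badNum (q₀ : ℕ) : ℕ := if q₀ = 5 then 1463 else q₀ ^ 2 - q₀ + 1

/-- Characteristic three and `3 ∣ |F|`. -/
def PropThree : Prop :=
  ∀ (G : Type u) [Group G] [Finite G] (S : Sylow 2 G) (t : G) (E E₀ : Subgroup G), Ctx S t E E₀ →
    3 ∣ Nat.card ↥(fieldPart S) → ∀ (F : Type) [Field F] [Fintype F], 3 ∣ Fintype.card F →
      Nonempty (↥E₀ ≃* Matrix.ProjectiveSpecialLinearGroup (Fin 2) F) → False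

/-- Every prime of `|F|` is three in characteristic three, or bad. -/
def PropGood : Prop :=
  PropKnown.{u} → PropKnownFacts.{u} → PropOrder.{u} →
    ∀ (G : Type u) [Group G] [Finite G] (S : Sylow 2 G) (t : G) (E E₀ : Subgroup G),
      Ctx S t E E₀ → SmallerNoField G → ∀ x ∈ fieldPart S, ∀ l : ℕ, l.Prime → orderOf x = l →
        ∀ (F : Type) [Field F] [Fintype F],
          Nonempty (↥E₀ ≃* Matrix.ProjectiveSpecialLinearGroup (Fin 2) F) →
          ∃ q₀ : ℕ, Fintype.card F = q₀ ^ l ∧ ((l = 3 ∧ 3 ∣ q₀) ∨ (5 ≤ l ∧ l ∣ badNum q₀))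

/-- All primes of `|F|` are bad. -/
def BadPrimes {G : Type u} [Group G] (S : Sylow 2 G) (E₀ : Subgroup G) : Prop :=
  ∀ x ∈ fieldPart S, ∀ l : ℕ, l.Prime → orderOf x = l →
    ∀ (F : Type) [Field F] [Fintype F],
      Nonempty (↥E₀ ≃* Matrix.ProjectiveSpecialLinearGroup (Fin 2) F) →
      ∃ q₀ : ℕ, Fintype.card F = q₀ ^ l ∧ 5 ≤ l ∧ l ∣ badNum q₀

/-- All primes bad and a fixed group larger than `A₅`. -/
def PropBigBad : Prop :=
  PropKnown.{u} → PropKnownFacts.{u} → PropOrder.{u} →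
    ∀ (G : Type u) [Group G] [Finite G] (S : Sylow 2 G) (t : G) (E E₀ : Subgroup G),
      Ctx S t E E₀ → SmallerNoField G → fieldPart S ≠ ⊥ → BadPrimes S E₀ → FixedBig S E₀ → False

/-- All primes bad and a fixed group at most `A₅`. -/
def PropSmallBad : Prop :=
  PropKnown.{u} → PropKnownFacts.{u} → PropOrder.{u} →
    ∀ (G : Type u) [Group G] [Finite G] (S : Sylow 2 G) (t : G) (E E₀ : Subgroup G),
      Ctx S t E E₀ → SmallerNoField G → fieldPart S ≠ ⊥ → BadPrimes S E₀ → ¬ FixedBig S E₀ → False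

/-- The bad primes are the only ones. -/
theorem badPrimes_of (hT : PropThree.{u}) (hGd : PropGood.{u}) (hK : PropKnown.{u})
    (hL : PropKnownFacts.{u}) (hO : PropOrder.{u}) {G : Type u} [Group G] [Finite G] {S : Sylow 2 G}
    {t : G} {E E₀ : Subgroup G} (C : Ctx S t E E₀) (hIH : SmallerNoField G) : BadPrimes S E₀ := by
  intro x hx l hl hxl F _ _ hF
  obtain ⟨q₀, hq, ⟨rfl, h3⟩ | h⟩ := hGd hK hL hO G S t E E₀ C hIH x hx l hl hxl F hF
  · exact (hT G S t E E₀ C (hxl ▸ Subgroup.orderOf_dvd_natCard _ hx) F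
      (hq ▸ h3.trans (dvd_pow_self q₀ (by norm_num))) hF).elim
  · exact ⟨q₀, hq, h⟩

/-- Section Z from the plan v3. -/
theorem noField_of_bad (hK : PropKnown.{u}) (hL : PropKnownFacts.{u}) (hO : PropOrder.{u})
    (hT : PropThree.{u}) (hGd : PropGood.{u}) (hB : PropBigBad.{u}) (hS : PropSmallBad.{u}) :
    PropNoField.{u} :=
  noField_of hK hL hO
    (fun k l o G _ _ S t E E₀ C hIH hF hb =>
      hB k l o G S t E E₀ C hIH hF (badPrimes_of hT hGd k l o C hIH) hb)
    (fun k l o G _ _ S t E E₀ C hIH hp hb =>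
      hS k l o G S t E E₀ C hIH (fun h => by
        rw [h, Subgroup.card_bot] at hp; exact Nat.not_prime_one hp)
        (badPrimes_of hT hGd k l o C hIH) hb)
    (fun k l o G _ _ S t E E₀ C hIH hF _ hb =>
      hS k l o G S t E E₀ C hIH hF (badPrimes_of hT hGd k l o C hIH) hb)

end Cfsg.Agent.Lib.Walter.NoField
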