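import Cfsg.Agent.Lib.Walter.NoField.SmallPrime.Three
import Cfsg.Agent.Lib.Walter.NoField.SmallPrime.Five

/-!
# Section Z: a small fixed group and a field part of prime order at least 5

`false_smallPrime`: the cases `E₀ ∩ C(x) ≅ A₄` (`l = 7`) and `≅ A₅` (`l ∈ {7, 11, 19}`) end by
transfer.  What remains of `PropSmallPrime` is `|F| = 3` (`propSmallPrime_of_three`).

Owner: helper87.
-/

set_option autoImplicit false
set_option linter.style.haveILetI false
set_option linter.unusedSectionVars false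

universe u

namespace Cfsg.Agent.Lib.Walter.NoField

open Subgroup

/-- A field part of prime order at least five and a small fixed group. -/
theorem false_smallPrime (hK : PropKnown.{u}) (hL : PropKnownFacts.{u}) (hO : PropOrder.{u})
    (G : Type u) [Group G] [Finite G] (S : Sylow 2 G) (t : G) (E E₀ : Subgroup G)
    (C : Ctx S t E E₀) (hIH : SmallerNoField G) (hp : (Nat.card ↥(fieldPart S)).Prime)
    (h5 : 5 ≤ Nat.card ↥(fieldPart S)) (hb : ¬ FixedBig S E₀) : False := by
  obtain ⟨l, hl⟩ : ∃ l, Nat.card ↥(fieldPart S) = l := ⟨_, rfl⟩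
  rw [hl] at hp h5
  haveI : Fact l.Prime := ⟨hp⟩
  obtain ⟨⟨x, hx⟩, hxo⟩ := exists_prime_orderOf_dvd_card' (G := ↥(fieldPart S)) l (by rw [hl])
  rw [Subgroup.orderOf_mk] at hxo
  have hgen : zpowers x = fieldPart S :=
    eq_of_le_of_card_ge (zpowers_le.2 hx) (by rw [hl, Nat.card_zpowers, hxo])
  have D : SmallPrime.Data S t E E₀ x l := ⟨C, hx, hxo, hgen.ge⟩
  have hcx : centralizer (fieldPart S : Set G) = centralizer ({x} : Set G) := by
    rw [← hgen, zpowers_eq_closure, centralizer_closure]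
  have hb' : Nat.card ↥(E₀ ⊓ centralizer ({x} : Set G)) ≤ 60 := by
    rw [← hcx]
    exact not_lt.1 hb
  obtain ⟨_, _, _, _, _, _, -, -, -, -, -, -, h⟩ :=
    Cent.fixed_cases C.jr C.ord C.mem C.cent D.cen D.odd_ord
  rcases h with ⟨-, h12⟩ | ⟨-, hodd⟩
  · exact D.false_three h5 hK hL h12
  · exact D.false_five h5 hK hL hO hIH hb' hodd

/-- `PropSmallPrime` from its case `|F| = 3`. -/
theorem propSmallPrime_of_three
    (h3 : PropKnown.{u} → PropKnownFacts.{u} → PropOrder.{u} →
      ∀ (G : Type u) [Group G] [Finite G] (S : Sylow 2 G) (t : G) (E E₀ : Subgroup G),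
        Ctx S t E E₀ → SmallerNoField G → Nat.card ↥(fieldPart S) = 3 → ¬ FixedBig S E₀ → False) :
    PropSmallPrime.{u} := by
  intro hK hL hO G _ _ S t E E₀ C hIH hp hb
  by_cases h : Nat.card ↥(fieldPart S) = 3
  · exact h3 hK hL hO G S t E E₀ C hIH h hb
  refine false_smallPrime hK hL hO G S t E E₀ C hIH hp ?_ hb
  have h2 := hp.two_le
  have hodd := odd_fieldPart S
  obtain ⟨k, hk⟩ := hodd
  omega

end Cfsg.Agent.Lib.Walter.NoField
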