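import Cfsg.Agent.Lib.Walter.NoField.InterfaceV3
import Cfsg.Agent.Lib.Walter.NoField.SmallPrime
import Cfsg.Agent.Lib.Walter.NoField.GoodPrime
import Cfsg.Agent.Lib.Walter.NoField.Chain.Final
import Cfsg.Agent.Lib.Walter.NoField.SmallBad.Element
import Cfsg.Agent.Lib.Walter.NoField.SmallBad.Arith

/-!
# Section Z: all primes bad and a small fixed group

`propSmallBad`.  For `|F|` composite the least prime is 7 and the fixed group is `A₄`; with `y`
generating the 7-part of `F`, elements of orders 7 and 3 of `N(S)` give the hypotheses of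
`Chain.false_of_base`.

Owner: helper87.
-/

set_option autoImplicit false
set_option linter.style.haveILetI false
set_option linter.unusedSectionVars false

universe u

namespace Cfsg.Agent.Lib.Walter.NoField

open Subgroup

namespace SmallBad

/-- The hypotheses of the chain theorem at the 7-part of `F`. -/
theorem false_of_seven {G : Type u} [Group G] [Finite G] {S : Sylow 2 G} {t : G} {E E₀ : Subgroup G}
    (C : Ctx S t E E₀) (h3 : ¬ 3 ∣ Nat.card ↥(fieldPart S)) {y : G} (hy : y ∈ fieldPart S) {a : ℕ}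
    (ha : 1 ≤ a) (hyo : orderOf y = 7 ^ a)
    (hnd : ¬ 7 ^ (a + 2) ∣ Nat.card ↥(centralizer ({y} : Set G))) : False := by
  haveI : Fact (Nat.Prime 7) := ⟨by norm_num⟩
  haveI := C.jr.simple
  obtain ⟨w, d, k, hwo, hwN, hwS, hdN, hdo, hdw, hk1, hk3⟩ := exists_wd C h3
  obtain ⟨o, ho⟩ : ∃ o, ordCompl[7] (Nat.card G) = o := ⟨_, rfl⟩
  obtain ⟨V, hV⟩ : ∃ V, (Nat.card G).factorization 7 = V := ⟨_, rfl⟩
  have hcard : 7 ^ V * o = Nat.card G := by
    rw [← ho, ← hV]
    exact Nat.ordProj_mul_ordCompl_eq_self _ _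
  have ho7 : ¬ 7 ∣ o := ho ▸ Nat.not_dvd_ordCompl (by norm_num) (Nat.card_pos (α := G)).ne'
  have h3o : 3 ∣ o := by
    have h : 3 ∣ 7 ^ V * o := by rw [hcard, ← hdo]; exact orderOf_dvd_natCard d
    exact ((Nat.coprime_pow_right_iff (n := 1) one_pos 3 7).2 (by norm_num) |>.pow_right V
      |>.dvd_of_dvd_mul_left (by simpa using h))
  obtain ⟨o', rfl⟩ := h3o
  have hKk : k ^ 7 ^ V ≡ k [MOD 7] := by
    refine (ZMod.natCast_eq_natCast_iff _ _ _).1 ?_
    push_cast
    exact ZMod.pow_card_pow _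
  refine Chain.false_of_base (y := y) (w := w) (d := d) (K := k ^ 7 ^ V) (l := 7) (e := a)
    { ne_two := by norm_num
      one_le := ha
      ordy := hyo
      ordw := hwo
      comm := C.comm_normalizer hwN hy
      not_mem := fun h => hwS (fieldPart_le_centralizer S ((zpowers_le.2 hy) h))
      not_dvd := hnd
      norm := fun g hg => (C.conj_fieldPart_eq hy ((zpowers_le.2 hy) hg) rfl).symm
      dy := C.comm_normalizer hdN hy
      dpow := by
        rw [ho, pow_mul, ← hdo, pow_orderOf_eq_one, one_pow]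
      dw := by
        rw [hdw, pow_eq_pow_iff_modEq, hwo]
        exact hKk.symm
      ne_one := fun h => hk1 (hKk.symm.trans h)
      sq_ne_one := fun h => hk1 (by
        have h2 : k ^ 2 ≡ 1 [MOD 7] := (hKk.pow 2).symm.trans h
        have h3' : k ^ 2 * k ≡ 1 * k [MOD 7] := h2.mul_right k
        rw [← pow_succ, one_mul] at h3'
        exact h3'.symm.trans hk3)
      exp := fun g j hj => ?_ } C.not_comm
  rw [ho, ← pow_mul]
  nth_rewrite 2 [← pow_one g]
  rw [pow_eq_pow_iff_modEq]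
  have hdiv : orderOf g ∣ 7 ^ V := by
    have h1 : orderOf g ∣ 7 ^ V * (3 * o') := hcard ▸ orderOf_dvd_natCard g
    refine Nat.Coprime.dvd_of_dvd_mul_right ?_ h1
    exact Nat.Coprime.coprime_dvd_left (orderOf_dvd_of_pow_eq_one hj)
      (((Nat.Prime.coprime_iff_not_dvd (by norm_num)).2 ho7).pow_left j)
  refine Nat.ModEq.of_dvd (hdiv.trans (pow_dvd_pow 7 (Nat.le_succ V))) ?_
  have h7 : (7 : ℤ) ∣ ((k ^ (3 * o') : ℕ) : ℤ) - 1 := by
    have : k ^ (3 * o') ≡ 1 [MOD 7] := by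
      rw [pow_mul]
      simpa using hk3.pow o'
    have := (Nat.modEq_iff_dvd.1 this.symm)
    simpa using this
  have hlift := dvd_sub_pow_of_dvd_sub (p := 7) (a := ((k ^ (3 * o') : ℕ) : ℤ)) (b := 1)
    (by simpa using h7) V
  refine (Nat.modEq_iff_dvd.2 ?_).symm
  rw [one_pow] at hlift
  push_cast at hlift ⊢
  rw [← pow_mul] at hlift
  rwa [mul_comm (7 ^ V) (3 * o')]

end SmallBad

/-- All primes of `|F|` bad and a fixed group at most `A₅`. -/
theorem propSmallBad : PropSmallBad.{u} := by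
  intro hK hL hO G _ _ S t E E₀ C hIH hF hbad hb
  haveI := C.isCyclic_fieldPart
  obtain ⟨⟨z, hz⟩, hgen⟩ := IsCyclic.exists_generator (α := ↥(fieldPart S))
  obtain ⟨m, hm⟩ : ∃ m, Nat.card ↥(fieldPart S) = m := ⟨_, rfl⟩
  have hzp : zpowers z = fieldPart S := le_antisymm (zpowers_le.2 hz) fun g hg => by
    obtain ⟨i, hi⟩ := mem_zpowers_iff.1 (hgen ⟨g, hg⟩)
    exact mem_zpowers_iff.2 ⟨i, by simpa using congrArg Subtype.val hi⟩
  have hzo : orderOf z = m := by rw [← hm, ← hzp, Nat.card_zpowers]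
  have hm1 : m ≠ 1 := fun h => hF (card_eq_one.1 (hm.trans h))
  have hzS := fieldPart_le_centralizer S hz
  have hzodd : Odd (orderOf z) := odd_orderOf_mem (odd_fieldPart S) hz
  obtain ⟨F, i1, i2, F₀, j1, j2, hE, -, -, hm0, hq, ⟨e₀⟩, -⟩ :=
    Cent.fixed_cases C.jr C.ord C.mem C.cent hzS hzodd
  rw [hzo] at hq
  set q₁ := Fintype.card F₀ with hq₁
  have hq₁' : q₁ = 3 ∨ q₁ = 5 := by
    have h2 := Linear.two_mul_card_PSL_two_of_odd (F := F₀) (Nat.odd_iff.2 (by omega))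
    rw [← Nat.card_congr e₀.toEquiv, ← hq₁] at h2
    have h60 : Nat.card ↥(E₀ ⊓ centralizer ({z} : Set G)) ≤ 60 := by
      rw [← centralizer_closure, ← zpowers_eq_closure, hzp]
      exact not_lt.1 hb
    by_contra hcon
    have h11 : 11 ≤ q₁ := by omega
    have h3 : 11 * 10 * 12 ≤ q₁ * (q₁ - 1) * (q₁ + 1) :=
      Nat.mul_le_mul (Nat.mul_le_mul h11 (by omega)) (by omega)
    omega
  have h2q : 2 ≤ q₁ := by rcases hq₁' with h | h <;> omega
  obtain ⟨e⟩ := hE
  have hpow : ∀ j : ℕ, j ∣ m → z ^ (m / j) ∈ fieldPart S ∧ orderOf (z ^ (m / j)) = j := by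
    intro j hj
    refine ⟨pow_mem hz _, ?_⟩
    have hm0' : 0 < m := by rw [← hzo]; exact orderOf_pos z
    rw [orderOf_pow_of_dvd (Nat.div_pos (Nat.le_of_dvd hm0' hj) (Nat.pos_of_dvd_of_pos hj hm0')).ne'
      (hzo.symm ▸ Nat.div_dvd_of_dvd hj), hzo, Nat.div_div_self hj hm0'.ne']
  have hinj : ∀ {j q : ℕ}, j ∣ m → 1 < j → Fintype.card F = q ^ j → q = q₁ ^ (m / j) := by
    intro j q hj hj1 h
    refine Nat.pow_left_injective (show j ≠ 0 by omega) ?_
    show q ^ j = (q₁ ^ (m / j)) ^ j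
    rw [← h, hq, ← pow_mul, Nat.div_mul_cancel hj]
  have hprime : ∀ p : ℕ, p.Prime → p ∣ m → 5 ≤ p ∧ p ∣ badNum (q₁ ^ (m / p)) := by
    intro p hp hpm
    obtain ⟨hx, hxo⟩ := hpow p hpm
    obtain ⟨q₀, h1, h2, h3⟩ := hbad _ hx p hp hxo F ⟨e⟩
    exact ⟨h2, hinj hpm hp.one_lt h1 ▸ h3⟩
  by_cases hmp : m.Prime
  · exact false_smallPrime hK hL hO G S t E E₀ C hIH (hm ▸ hmp)
      (hm ▸ (hprime m hmp dvd_rfl).1) hb
  set l := m.minFac with hl
  have hlp : l.Prime := Nat.minFac_prime hm1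
  have hlm : l ∣ m := Nat.minFac_dvd m
  obtain ⟨h5, hlbad⟩ := hprime l hlp hlm
  have hml : 2 ≤ m / l := by
    have h1 : l * (m / l) = m := Nat.mul_div_cancel' hlm
    obtain ⟨c, hc⟩ : ∃ c : ℕ, m / l = c := ⟨_, rfl⟩
    rw [hc] at h1 ⊢
    by_contra h
    rcases (show c = 0 ∨ c = 1 by omega) with h0 | h0
    · rw [h0, mul_zero] at h1
      exact absurd (hzo.trans h1.symm) (orderOf_pos z).ne'
    · rw [h0, mul_one] at h1
      exact hmp (h1 ▸ hlp)
  rcases hq₁' with rfl' | rfl'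
  · -- the fixed group is `A₄`
    rw [rfl'] at hlbad hq
    have hne5 : ∀ n : ℕ, (3 : ℕ) ^ n ≠ 5 := fun n h => by
      rcases n with _ | n
      · norm_num at h
      · rw [pow_succ] at h; omega
    rw [badNum, if_neg (hne5 _)] at hlbad
    have h7 : l = 7 := SmallBad.eq_seven hlp h5 (fun p hp hpn =>
      Nat.minFac_le_of_dvd hp.two_le (hpn.trans (Nat.div_dvd_of_dvd hlm))) hlbad
    have hm0' : m ≠ 0 := by rw [← hzo]; exact (orderOf_pos z).ne'
    obtain ⟨a, n, hn7, hmn⟩ := Nat.exists_eq_pow_mul_and_not_dvd hm0' 7 (by norm_num)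
    have ha : 1 ≤ a := by
      rcases Nat.eq_zero_or_pos a with h | h
      · rw [h, pow_zero, one_mul] at hmn
        exact absurd (hmn ▸ h7 ▸ hlm) hn7
      · exact h
    have h3m : ¬ 3 ∣ m := fun h => by
      have := (hprime 3 Nat.prime_three h).1
      omega
    have h3n : ¬ 3 ∣ n := fun h => h3m (hmn ▸ dvd_mul_of_dvd_right h _)
    have hdvd : 7 ^ a ∣ m := hmn ▸ dvd_mul_right _ _
    obtain ⟨hy, hyo⟩ := hpow _ hdvd
    rw [show m / 7 ^ a = n by rw [hmn, Nat.mul_div_cancel_left _ (pow_pos (by norm_num) a)]]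
      at hy hyo
    have hy1 : z ^ n ≠ 1 := fun h => by
      rw [h, orderOf_one] at hyo
      exact absurd hyo (Nat.one_lt_pow (by omega) (by norm_num)).ne
    obtain ⟨q₀, hqy, hL2, hc⟩ := Small.relIndex_cases_of_equiv hK hL hO hIH C hy hy1 e
    rw [hyo] at hqy
    have hq₀ : q₀ = 3 ^ n := by
      have := hinj hdvd (Nat.one_lt_pow (by omega) (by norm_num)) hqy
      rwa [rfl', show m / 7 ^ a = n by
        rw [hmn, Nat.mul_div_cancel_left _ (pow_pos (by norm_num) a)]] at this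
    have hr : ¬ 49 ∣ (centralizer ({z ^ n, t} : Set G)).relIndex
        (centralizer ({z ^ n} : Set G)) := by
      rcases hc with ⟨-, h | h⟩ | ⟨h, -⟩ | ⟨k, -, -, h⟩
      · rw [h]; norm_num
      · rw [h]; norm_num
      · exact absurd (hq₀.symm.trans h) (hne5 n)
      · rw [h, hq₀]
        intro h'
        refine SmallBad.not_dvd_seven hn7 (Nat.Coprime.dvd_of_dvd_mul_left ?_ h')
        exact (show Nat.Coprime 49 3 by norm_num).pow_right n |>.pow_right 2
    refine SmallBad.false_of_seven C (hm.symm ▸ h3m) hy ha hyo fun hd => ?_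
    rw [SmallBad.card_centralizer C hy, hm] at hd
    set r := (centralizer ({z ^ n, t} : Set G)).relIndex (centralizer ({z ^ n} : Set G))
    have h7p : Nat.Prime 7 := by norm_num
    have hcop : Nat.Coprime 49 (3 ^ n * (3 ^ n - 1) * (3 ^ n + 1) * n) := by
      rw [show (49 : ℕ) = 7 ^ 2 by norm_num]
      refine ((h7p.coprime_iff_not_dvd.2 fun h => ?_).pow_left 2)
      rcases h7p.dvd_mul.1 h with h' | h'
      · exact SmallBad.not_seven_dvd_prod h3n h'
      · exact hn7 h'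
    refine hr (hcop.dvd_of_dvd_mul_right (Nat.dvd_of_mul_dvd_mul_left
      (pow_pos (show 0 < 7 by norm_num) a) ?_))
    rw [← hq₀, ← hL2]
    refine (pow_add 7 a 2).symm.dvd.trans (hd.trans (dvd_of_eq ?_))
    rw [hmn]
    ring
  · -- the fixed group is `A₅`
    obtain ⟨hx, hxo⟩ := hpow l hlm
    have hx1 : z ^ (m / l) ≠ 1 := fun h => hlp.one_lt.ne (by rw [← hxo, h, orderOf_one])
    obtain ⟨q₀, hqx, -, hc⟩ := Small.relIndex_cases_of_equiv hK hL hO hIH C hx hx1 e
    rw [hxo] at hqx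
    have hq₀ := hinj hlm hlp.one_lt hqx
    rw [rfl'] at hq₀
    have h3 : ∀ n : ℕ, ¬ 3 ∣ 5 ^ n := fun n h =>
      absurd (Nat.prime_three.dvd_of_dvd_pow h) (by norm_num)
    rcases hc with ⟨h, -⟩ | ⟨h, -⟩ | ⟨k, -, h, -⟩
    · exact h3 (m / l) (dvd_of_eq (h.symm.trans hq₀))
    · have h1 : (5 : ℕ) ^ (m / l) = 5 ^ 1 := by rw [← hq₀, h, pow_one]
      have := Nat.pow_right_injective (by norm_num : 2 ≤ 5) h1
      omega
    · exact h3 (m / l) (hq₀ ▸ h ▸ dvd_pow_self 3 (by omega))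

end Cfsg.Agent.Lib.Walter.NoField
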