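import Cfsg.Agent.Lib.Walter.Final
import Cfsg.Agent.Lib.Walter.NoField.InterfaceV3
import Cfsg.Agent.Lib.Walter.NoField.GoodPrime
import Cfsg.Agent.Lib.Walter.NoField.SmallBad
import Cfsg.Agent.Lib.Walter.NoField.Three.Main

/-!
# Section Z from the case of a large fixed group

Captain: helper37.
-/

set_option autoImplicit false

universe u

namespace Cfsg.Agent.Lib.Walter.NoField

/-- `PropNoField` from `PropBigBad` and the order theorem. -/
theorem noField_of_bigBad (hB : PropBigBad.{u}) (hO : PropOrder.{u}) : PropNoField.{u} :=
  noField_of_bad propKnownFinal knownFactsFinal hO propThree propGood hB propSmallBad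

end Cfsg.Agent.Lib.Walter.NoField
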