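import Cfsg.Agent.Lib.Walter.NoField.Local.NormIndex
import Cfsg.Agent.Lib.Walter.NoField.Local.TorusCyclic

/-!
# Section Z (`PropNoField`): local facts from `IsJR G`

See `notes/walter_nofield.md`, L1-L4.

* `Setup`: `fieldPart S` (`F`), `pairCore x y` (`O`), `torus S x y` (`T`), `Ctx`, `Ctx.exists_tri`.
* `FieldPart` (L1): `exists_mul_fieldPart`, `exists_mul`, `sup_fieldPart`, `eq_iff_fieldPart`,
  `isCyclic_fieldPart`, `card_fieldPart_dvd`.
* `NormSylow` (L2): `exists_conj_of_mem`, `comm_normalizer`, `conj_fieldPart_eq`, `exists_rot_mul`.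
* `Pair`, `PairNorm` (L3): `exists_mul_pairCore`, `torus_eq`, `torus_inverted`, `comm_torus`,
  `exists_mul_torus`, `exists_pairCycle`, `exists_cycle_mul`, `exists_hom_fieldPart`.
* `TorusCyclic`: `isCyclic_torus`.
* `TorusCentralizer` (L4): `mem_pair_of_comm`, `exists_mul_of_comm`, `coreIn_centralizer_torus_le`,
  `eq_of_pgroup_centralizer_torus`.

Owner: helper66.
-/
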