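import Cfsg.Agent.S0198
import Cfsg.Agent.Lib.Induced.Generalized
import Cfsg.Agent.Lib.Induced.Character
import Cfsg.Agent.Lib.Characters.Basic
import Cfsg.Agent.Lib.Characters.Linear
import Cfsg.Prelude.Def_Blocks

/-!
# Section Z: exceptional characters from differences supported on a set of l-sections

`exceptional_of_sub`: characters of `H` of equal degree agreeing outside a set `A` on which `H`
controls fusion give exceptional characters of `G`.  `exceptional_at` is the case `H = C(x)`,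
`A = {h | ⟨h ^ N⟩ = ⟨x⟩}` with `N(⟨x⟩) = C(x)`.

Owner: helper87.
-/

set_option autoImplicit false
set_option linter.unusedSectionVars false
set_option linter.style.haveILetI false

universe u

namespace Cfsg.Agent.Lib.Walter.NoField.Isometry

open Subgroup Cfsg.Agent.Lib.Induced.Basic

variable {G : Type u} [Group G] [Fintype G]

/-- `H` controls fusion in `A`, which avoids `1`. -/
structure FusionSet (H : Subgroup G) (A : Set G) : Prop where
  le : A ⊆ H
  one_not_mem : (1 : G) ∉ A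
  conj_mem : ∀ h ∈ H, ∀ a ∈ A, h * a * h⁻¹ ∈ A
  fusion : ∀ g : G, ∀ a ∈ A, g * a * g⁻¹ ∈ A → g ∈ H

variable {H : Subgroup G} {A : Set G}

theorem indFun_eq_self (hA : FusionSet H A) (ψ : H → ℂ) (hψ : Cfsg.IsClassFunction H ψ)
    (hψA : ∀ h : H, (h : G) ∉ A → ψ h = 0) {t : H} (ht : (t : G) ∈ A) :
    Cfsg.indFun H ψ t = ψ t := by
  classical
  have key : ∀ x : G, Cfsg.extendByZero H ψ (x⁻¹ * t * x) = if x ∈ H then ψ t else 0 := by
    intro x
    split_ifs with hx
    · rw [extendByZero_of_mem H ψ (H.mul_mem (H.mul_mem (H.inv_mem hx) t.2) hx)]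
      refine Eq.trans ?_ (hψ t ⟨x⁻¹, H.inv_mem hx⟩)
      congr 1
      exact Subtype.ext (by simp)
    · by_cases hm : x⁻¹ * t * x ∈ H
      · rw [extendByZero_of_mem H ψ hm]
        refine hψA _ fun hT => hx ?_
        have h1 := hA.fusion x⁻¹ t ht (by rwa [inv_inv])
        exact inv_mem_iff.1 h1
      · exact extendByZero_of_not_mem H ψ hm
  simp only [Cfsg.indFun, key]
  rw [← Finset.sum_filter, Finset.sum_const, nsmul_eq_mul, ← mul_assoc]
  have : (Finset.univ.filter (fun x : G => x ∈ H)).card = Nat.card H := by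
    rw [Nat.card_eq_fintype_card, Fintype.card_subtype]
  rw [this, inv_mul_cancel₀ (subgroup_card_ne_zero H), one_mul]

theorem classInner_indFun (hA : FusionSet H A) [Fintype H] (ψ θ : H → ℂ)
    (hθ : Cfsg.IsClassFunction H θ) (hψA : ∀ h : H, (h : G) ∉ A → ψ h = 0)
    (hθA : ∀ h : H, (h : G) ∉ A → θ h = 0) :
    Cfsg.classInner (Cfsg.indFun H ψ) (Cfsg.indFun H θ) = Cfsg.classInner ψ θ := by
  rw [frobenius_reciprocity H ψ (isClassFunction_indFun _ θ)]
  simp only [Cfsg.classInner]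
  congr 1
  refine Finset.sum_congr rfl fun h _ => ?_
  by_cases hh : (h : G) ∈ A
  · rw [indFun_eq_self hA θ hθ hθA hh]
  · rw [hψA h hh, zero_mul, zero_mul]

theorem indFun_eq_zero_of_conj (ψ : H → ℂ) (hψA : ∀ h : H, (h : G) ∉ A → ψ h = 0) {g : G}
    (hg : ∀ x : G, x⁻¹ * g * x ∉ A) : Cfsg.indFun H ψ g = 0 := by
  simp only [Cfsg.indFun]
  rw [Finset.sum_eq_zero, mul_zero]
  intro x _
  by_cases hx : x⁻¹ * g * x ∈ H
  · rw [extendByZero_of_mem H ψ hx]
    exact hψA _ (hg x)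
  · exact extendByZero_of_not_mem H ψ hx

/-- Characters of `H` of equal degree agreeing outside `A` give exceptional characters of `G`. -/
theorem exceptional_of_sub (hA : FusionSet H A) (n : ℕ) (i₀ : Fin n)
    (χ : Fin n → Cfsg.IrrCharacter H) (hinj : Function.Injective χ)
    (hvan : ∀ i, ∀ h : H, (h : G) ∉ A → (χ i : H → ℂ) h = (χ i₀ : H → ℂ) h) :
    ∃ (ε : ℂ) (θ : Fin n → Cfsg.IrrCharacter G), (ε = 1 ∨ ε = -1) ∧ Function.Injective θ ∧
      (∀ i j, Cfsg.indFun H (χ i : H → ℂ) - Cfsg.indFun H (χ j : H → ℂ) =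
        ε • ((θ i : G → ℂ) - (θ j : G → ℂ))) ∧
      (∀ i j, ∀ g : G, (∀ x : G, x⁻¹ * g * x ∉ A) → (θ i : G → ℂ) g = (θ j : G → ℂ) g) := by
  classical
  have hzero : ∀ i, ∀ h : H, (h : G) ∉ A → ((χ i : H → ℂ) - (χ i₀ : H → ℂ)) h = 0 :=
    fun i h hh => by rw [Pi.sub_apply, hvan i h hh, sub_self]
  have hgenN : ∀ i, Cfsg.IsGeneralizedCharacter H ((χ i : H → ℂ) - (χ i₀ : H → ℂ)) := fun i =>
    Induced.Generalized.isGen_sub (Induced.Generalized.of_irr (χ i))
      (Induced.Generalized.of_irr (χ i₀))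
  let τ : Fin n → (G → ℂ) := fun i => Cfsg.indFun H ((χ i : H → ℂ) - (χ i₀ : H → ℂ))
  have hτ0 : ∀ i, ∀ g : G, (∀ x : G, x⁻¹ * g * x ∉ A) → τ i g = 0 := fun i g hg =>
    indFun_eq_zero_of_conj _ (hzero i) hg
  have h1A : ∀ x : G, x⁻¹ * (1 : G) * x ∉ A := fun x => by
    rw [mul_one, inv_mul_cancel]; exact hA.one_not_mem
  have hgram : ∀ i j, i ≠ i₀ → j ≠ i₀ →
      Cfsg.classInner (τ i) (τ j) = if i = j then 2 else 1 := by
    intro i j hi hj
    rw [classInner_indFun hA _ _ (Induced.Generalized.isClassFunction_of_isGen (hgenN j))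
      (hzero i) (hzero j)]
    have hne : ∀ k l, k ≠ l → Cfsg.classInner (χ k : H → ℂ) (χ l : H → ℂ) = 0 := fun k l h =>
      Characters.Basic.classInner_irr_of_ne (χ := χ k) (ψ := χ l) fun e => h (hinj e)
    have hself : ∀ k, Cfsg.classInner (χ k : H → ℂ) (χ k : H → ℂ) = 1 := fun k =>
      Characters.Basic.classInner_self_irr (χ k)
    rw [classInner_sub_left, classInner_sub_right, classInner_sub_right, hne i i₀ hi,
      hne i₀ j (Ne.symm hj), hself i₀]
    split_ifs with hij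
    · rw [hij, hself j]; norm_num
    · rw [hne i j hij]; norm_num
  obtain ⟨ε, hε, μ, hμ, hμinj, hτ⟩ := Cfsg.Agent.S0198.result n i₀ τ
    (by simp [τ, indFun_zero])
    (fun i => Induced.Character.isGeneralizedCharacter_indFun H (hgenN i))
    (fun i => hτ0 i 1 h1A) hgram
  have hij : ∀ i j, Cfsg.indFun H (χ i : H → ℂ) - Cfsg.indFun H (χ j : H → ℂ) =
      ε • (μ i - μ j) := fun i j => by
    have hi := hτ i
    have hj := hτ j
    simp only [τ, indFun_sub] at hi hj
    calc Cfsg.indFun H (χ i : H → ℂ) - Cfsg.indFun H (χ j : H → ℂ)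
        = (Cfsg.indFun H (χ i : H → ℂ) - Cfsg.indFun H (χ i₀ : H → ℂ)) -
          (Cfsg.indFun H (χ j : H → ℂ) - Cfsg.indFun H (χ i₀ : H → ℂ)) := by abel
      _ = ε • (μ i - μ j) := by rw [hi, hj, ← smul_sub]; congr 1; abel
  refine ⟨ε, fun i => ⟨μ i, hμ i⟩, hε, fun i j e => hμinj (congrArg Subtype.val e), hij,
    fun i j g hg => ?_⟩
  have hεne : ε ≠ 0 := by rcases hε with rfl | rfl <;> norm_num
  have h := congrFun (hij i j) g
  have hi := hτ0 i g hg
  have hj := hτ0 j g hg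
  simp only [τ, indFun_sub, Pi.sub_apply] at hi hj
  simp only [Pi.sub_apply, Pi.smul_apply, smul_eq_mul] at h
  have hz : ε * (μ i g - μ j g) = 0 := by rw [← h]; linear_combination hi - hj
  exact sub_eq_zero.1 ((mul_eq_zero.1 hz).resolve_left hεne)

/-- The elements of `C(x)` whose `N`-th power generates `⟨x⟩`. -/
def genSet (x : G) (N : ℕ) : Set G :=
  {h | h ∈ centralizer ({x} : Set G) ∧ zpowers (h ^ N) = zpowers x}

/-- For `x ≠ 1` conjugate to no other power of itself, `C(x)` controls fusion in `genSet x N`. -/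
theorem fusionSet_genSet {x : G} (hx : x ≠ 1)
    (hnorm : normalizer (zpowers x : Set G) ≤ centralizer ({x} : Set G)) (N : ℕ) :
    FusionSet (centralizer ({x} : Set G)) (genSet x N) where
  le := fun _ h => h.1
  one_not_mem := fun h => hx (zpowers_eq_bot.1 (by rw [← h.2, one_pow, zpowers_one_eq_bot]))
  conj_mem := by
    rintro h hh a ⟨ha, haN⟩
    refine ⟨mul_mem (mul_mem hh ha) (inv_mem hh), ?_⟩
    obtain ⟨k, hk⟩ := mem_zpowers_iff.1 (haN ▸ mem_zpowers (a ^ N) : a ^ N ∈ zpowers x)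
    rw [conj_pow, ← hk, ((show Commute h x from mem_centralizer_singleton_iff.1 hh).zpow_right k).eq,
      mul_inv_cancel_right, hk, haN]
  fusion := by
    rintro g a ⟨-, haN⟩ ⟨-, hgN⟩
    refine hnorm (mem_normalizer_iff_map_conj_eq.2 ?_)
    rw [conj_pow] at hgN
    conv_lhs => rw [← haN]
    rw [MonoidHom.map_zpowers]
    exact hgN

/-- Exceptional characters at an element conjugate to no other power of itself. -/
theorem exceptional_at {x : G} (hx : x ≠ 1)
    (hnorm : normalizer (zpowers x : Set G) ≤ centralizer ({x} : Set G)) (N : ℕ) (n : ℕ)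
    (i₀ : Fin n) (χ : Fin n → Cfsg.IrrCharacter (centralizer ({x} : Set G)))
    (hinj : Function.Injective χ)
    (hvan : ∀ i, ∀ h : centralizer ({x} : Set G), (h : G) ∉ genSet x N →
      (χ i : centralizer ({x} : Set G) → ℂ) h = (χ i₀ : centralizer ({x} : Set G) → ℂ) h) :
    ∃ (ε : ℂ) (θ : Fin n → Cfsg.IrrCharacter G), (ε = 1 ∨ ε = -1) ∧ Function.Injective θ ∧
      (∀ i j, Cfsg.indFun (centralizer ({x} : Set G)) (χ i : centralizer ({x} : Set G) → ℂ) -
          Cfsg.indFun (centralizer ({x} : Set G)) (χ j : centralizer ({x} : Set G) → ℂ) =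
        ε • ((θ i : G → ℂ) - (θ j : G → ℂ))) ∧
      (∀ i j, (θ i : G → ℂ) 1 = (θ j : G → ℂ) 1) ∧
      (∀ i j, Cfsg.charDegree (θ i : G → ℂ) = Cfsg.charDegree (θ j : G → ℂ)) ∧
      ∀ i j, ∀ g : G, (∀ c : G, zpowers (c * g ^ N * c⁻¹) ≠ zpowers x) →
        (θ i : G → ℂ) g = (θ j : G → ℂ) g := by
  obtain ⟨ε, θ, hε, hθ, hind, hval⟩ :=
    exceptional_of_sub (fusionSet_genSet hx hnorm N) n i₀ χ hinj hvan
  have hout : ∀ g : G, (∀ c : G, zpowers (c * g ^ N * c⁻¹) ≠ zpowers x) →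
      ∀ y : G, y⁻¹ * g * y ∉ genSet x N := by
    rintro g hg y ⟨-, h1⟩
    rw [show y⁻¹ * g * y = y⁻¹ * g * y⁻¹⁻¹ by rw [inv_inv], conj_pow] at h1
    exact hg _ h1
  have hdeg : ∀ i j, (θ i : G → ℂ) 1 = (θ j : G → ℂ) 1 := fun i j =>
    hval i j 1 (hout 1 fun c e => hx (zpowers_eq_bot.1 (by
      rw [← e, one_pow, mul_one, mul_inv_cancel, zpowers_one_eq_bot])))
  exact ⟨ε, θ, hε, hθ, hind, hdeg, fun i j => by simp only [Cfsg.charDegree, hdeg i j],
    fun i j g hg => hval i j g (hout g hg)⟩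

/-- An exponent extracting `l`-parts in `G`. -/
theorem exists_exponent (G : Type u) [Group G] [Finite G] (l : ℕ) [Fact l.Prime] :
    ∃ N : ℕ, ∀ g : G, (Nat.Coprime (orderOf g) l → g ^ N = 1) ∧
      ((∃ k : ℕ, g ^ l ^ k = 1) → g ^ N = g) := by
  set c := Nat.card G with hc
  have hc0 : c ≠ 0 := Nat.card_pos.ne'
  have hl : l.Prime := Fact.out
  set m := ordCompl[l] c with hm
  have hcop : Nat.Coprime (l ^ c.factorization l) m :=
    (Nat.coprime_ordCompl hl hc0).pow_left _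
  obtain ⟨N, hN1, hN2⟩ := Nat.chineseRemainder hcop 1 0
  refine ⟨N, fun g => ⟨fun hg => ?_, fun ⟨k, hk⟩ => ?_⟩⟩
  · have hd : orderOf g ∣ l ^ c.factorization l * m := by
      rw [hm, Nat.ordProj_mul_ordCompl_eq_self]; exact orderOf_dvd_natCard g
    have hdm : orderOf g ∣ m := (hg.pow_right _).dvd_of_dvd_mul_left hd
    exact orderOf_dvd_iff_pow_eq_one.1 (hdm.trans (Nat.modEq_zero_iff_dvd.1 hN2))
  · obtain ⟨i, -, hi⟩ := (Nat.dvd_prime_pow hl).1 (orderOf_dvd_of_pow_eq_one hk)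
    have hd : orderOf g ∣ c := orderOf_dvd_natCard g
    rw [hi] at hd
    have hle := (hl.pow_dvd_iff_le_factorization hc0).1 hd
    have hmod : N ≡ 1 [MOD orderOf g] := hN1.of_dvd (hi ▸ pow_dvd_pow l hle)
    conv_rhs => rw [← pow_one g]
    exact pow_eq_pow_iff_modEq.2 hmod

/-- Twists of one character vanishing off the sections of `⟨x⟩`: equal degrees, equal values at the
elements whose `N`-th power is not conjugate to a generator of `⟨x⟩`. -/
theorem exceptional_twist {x : G} (hx : x ≠ 1)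
    (hnorm : normalizer (zpowers x : Set G) ≤ centralizer ({x} : Set G)) (N : ℕ) (n : ℕ)
    (i₀ : Fin n) (ψ : Cfsg.IrrCharacter (centralizer ({x} : Set G)))
    (hψ : ∀ h : centralizer ({x} : Set G), (h : G) ^ N ∉ zpowers x →
      (ψ : centralizer ({x} : Set G) → ℂ) h = 0)
    (hψx : (ψ : centralizer ({x} : Set G) → ℂ) ⟨x, mem_centralizer_singleton_iff.2 rfl⟩ ≠ 0)
    (lam : Fin n → (centralizer ({x} : Set G) →* ℂˣ))
    (hlam : ∀ i, ∀ h : centralizer ({x} : Set G), (h : G) ^ N ∈ zpowers x →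
      zpowers ((h : G) ^ N) ≠ zpowers x → lam i h = 1)
    (hinj : Function.Injective fun i => lam i ⟨x, mem_centralizer_singleton_iff.2 rfl⟩) :
    ∃ (ε : ℂ) (θ : Fin n → Cfsg.IrrCharacter G), (ε = 1 ∨ ε = -1) ∧ Function.Injective θ ∧
      (∀ i j, Cfsg.indFun (centralizer ({x} : Set G))
            (fun h => (lam i h : ℂ) * (ψ : centralizer ({x} : Set G) → ℂ) h) -
          Cfsg.indFun (centralizer ({x} : Set G))
            (fun h => (lam j h : ℂ) * (ψ : centralizer ({x} : Set G) → ℂ) h) =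
        ε • ((θ i : G → ℂ) - (θ j : G → ℂ))) ∧
      (∀ i j, (θ i : G → ℂ) 1 = (θ j : G → ℂ) 1) ∧
      ∀ i j, ∀ g : G, (∀ c : G, zpowers (c * g ^ N * c⁻¹) ≠ zpowers x) →
        (θ i : G → ℂ) g = (θ j : G → ℂ) g := by
  have hirr : ∀ i, Cfsg.IsIrrCharacter (centralizer ({x} : Set G)) fun h => (lam i h : ℂ) * (ψ : (centralizer ({x} : Set G)) → ℂ) h := fun i => by
    have h := Characters.Linear.isIrrCharacter_linear_mul
      (lam := (Characters.Linear.linChar (lam i) : (centralizer ({x} : Set G)) → ℂ))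
      (Characters.Basic.isCharacter_irr _)
      (by rw [Characters.Linear.linChar_apply, map_one, Units.val_one]) ψ.2
    exact h
  let χ : Fin n → Cfsg.IrrCharacter (centralizer ({x} : Set G)) := fun i => ⟨_, hirr i⟩
  have hχinj : Function.Injective χ := fun i j e => hinj (Units.ext
    (mul_right_cancel₀ hψx (congrFun (congrArg Subtype.val e) ⟨x, _⟩)))
  have hvan : ∀ i, ∀ h : (centralizer ({x} : Set G)), (h : G) ∉ genSet x N →
      (χ i : (centralizer ({x} : Set G)) → ℂ) h = (χ i₀ : (centralizer ({x} : Set G)) → ℂ) h := fun i h hh => by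
    show (lam i h : ℂ) * (ψ : (centralizer ({x} : Set G)) → ℂ) h = (lam i₀ h : ℂ) * (ψ : (centralizer ({x} : Set G)) → ℂ) h
    by_cases h1 : (h : G) ^ N ∈ zpowers x
    · rw [hlam i h h1 fun e => hh ⟨h.2, e⟩, hlam i₀ h h1 fun e => hh ⟨h.2, e⟩]
    · rw [hψ h h1, mul_zero, mul_zero]
  obtain ⟨ε, θ, hε, hθ, hind, hdeg, -, hval⟩ := exceptional_at hx hnorm N n i₀ χ hχinj hvan
  exact ⟨ε, θ, hε, hθ, hind, hdeg, hval⟩

end Cfsg.Agent.Lib.Walter.NoField.Isometry
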