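import Cfsg.Agent.Lib.Walter.NoField.Local
import Cfsg.Agent.Lib.Walter.NoField.Section
import Cfsg.Agent.Lib.Walter.NoField.Isometry

/-!
# Section Z: induction and the section of an involution

`indFun_section`: if `t ∈ H` and every `G`-conjugate of `t` in `H` is an `H`-conjugate, then on the
elements of odd order of `K` the `t`-section of `Ind_H^G ψ` is `Ind_{H ∩ K}^K` of the `t`-section of
`ψ`.  `secCoeff_indFun` is the resulting formula for the coefficients; `Ctx.conj_hyp` gives the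
hypothesis for `H = C(x)`, `x ∈ F`.

Owner: helper87.
-/

set_option autoImplicit false
set_option linter.style.haveILetI false
set_option linter.unusedSectionVars false

universe u

namespace Cfsg.Agent.Lib.Walter.NoField

open Subgroup Cfsg.Agent.Lib.Induced.Basic
open scoped ComplexConjugate

variable {G : Type u} [Group G]

/-- The `t`-section of a function on `H`, on `H ∩ K`. -/
def secRestrict {t : G} {H : Subgroup G} (htH : t ∈ H) (K : Subgroup G) (ψ : ↥H → ℂ) :
    ↥(H.subgroupOf K) → ℂ :=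
  fun k => ψ ⟨t * ((k : ↥K) : G), H.mul_mem htH (mem_subgroupOf.1 k.2)⟩

variable [Fintype G] {t : G} {H K : Subgroup G} [Fintype ↥K]

/-- The section of an induced function is induced from the section. -/
theorem indFun_section
    (hK : Cfsg.IsInternalDirectProduct (zpowers t) K (centralizer ({t} : Set G)))
    (ht : orderOf t = 2) (htH : t ∈ H)
    (hconj : ∀ y : G, y⁻¹ * t * y ∈ H → ∃ c ∈ centralizer ({t} : Set G), ∃ h ∈ H, y = c * h)
    {ψ : ↥H → ℂ} (hψ : Cfsg.IsClassFunction ↥H ψ) (k : ↥K) (hk : ¬ 2 ∣ orderOf (k : G)) :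
    Cfsg.indFun H ψ (t * (k : G)) = Cfsg.indFun (H.subgroupOf K) (secRestrict htH K ψ) k := by
  classical
  have hcomm : ∀ c : G, c ∈ K → c * t = t * c := fun c hc => sec_comm hK hc
  have ht2 : t * t = 1 := by rw [← pow_two, ← ht, pow_orderOf_eq_one]
  -- the factor from `C(t)` can be taken in `K`
  have hfac : ∀ y : G, y⁻¹ * t * y ∈ H → ∃ c : ↥K, ∃ h : ↥H, y = (c : G) * h := by
    intro y hy
    obtain ⟨c, hc, h, hh, rfl⟩ := hconj y hy
    obtain ⟨h₁, h₂, hcm, -, hsup⟩ := hK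
    rw [← hsup, Subgroup.sup_eq_closure] at hc
    suffices hs : ∃ z ∈ zpowers t, ∃ w ∈ K, c = z * w by
      obtain ⟨z, hz, w, hw, rfl⟩ := hs
      refine ⟨⟨w, hw⟩, ⟨z * h, H.mul_mem ((zpowers_le.2 htH) hz) hh⟩, ?_⟩
      show z * w * h = w * (z * h)
      rw [hcm z hz w hw, mul_assoc]
    clear hy
    induction hc using Subgroup.closure_induction with
    | mem z hz =>
      rcases hz with hz | hz
      · exact ⟨z, hz, 1, K.one_mem, (mul_one z).symm⟩
      · exact ⟨1, one_mem _, z, hz, (one_mul z).symm⟩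
    | one => exact ⟨1, one_mem _, 1, K.one_mem, (mul_one 1).symm⟩
    | mul a b _ _ ha hb =>
      obtain ⟨z, hz, w, hw, rfl⟩ := ha
      obtain ⟨z', hz', w', hw', rfl⟩ := hb
      refine ⟨z * z', mul_mem hz hz', w * w', mul_mem hw hw', ?_⟩
      rw [mul_assoc, ← mul_assoc w, ← hcm z' hz' w hw]
      group
    | inv a _ ha =>
      obtain ⟨z, hz, w, hw, rfl⟩ := ha
      exact ⟨z⁻¹, inv_mem hz, w⁻¹, inv_mem hw, by
        rw [mul_inv_rev]; exact (hcm _ (inv_mem hz) _ (inv_mem hw)).symm⟩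
  set g : G := t * (k : G) with hg
  set f : G → ℂ := fun y => Cfsg.extendByZero H ψ (y⁻¹ * g * y) with hf
  -- outside `K H` the summand vanishes
  have hzero : ∀ y : G, (∀ c : ↥K, ∀ h : ↥H, y ≠ (c : G) * h) → f y = 0 := by
    intro y hy
    refine extendByZero_of_not_mem H ψ fun hm => ?_
    have hodd : Odd (orderOf (k : G)) := Nat.odd_iff.2 (by omega)
    have hpow : g ^ orderOf (k : G) = t := by
      obtain ⟨j, hj⟩ := hodd
      rw [hg, (show Commute t (k : G) from (hcomm _ k.2).symm).mul_pow, pow_orderOf_eq_one, mul_one,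
        hj, pow_succ, pow_mul, pow_two, ht2, one_pow, one_mul]
    obtain ⟨c, h, e⟩ := hfac y (by
      have h1 := pow_mem hm (orderOf (k : G))
      rwa [show y⁻¹ * g * y = y⁻¹ * g * y⁻¹⁻¹ by rw [inv_inv], conj_pow, hpow, inv_inv] at h1)
    exact hy c h e
  -- the value on `K H`
  have hval : ∀ (c : ↥K) (h : ↥H), f ((c : G) * h) =
      Cfsg.extendByZero H ψ (t * ((c⁻¹ * k * c : ↥K) : G)) := by
    intro c h
    have e : ((c : G) * h)⁻¹ * g * ((c : G) * h) =
        (h : G)⁻¹ * (t * ((c⁻¹ * k * c : ↥K) : G)) * (h : G)⁻¹⁻¹ := by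
      simp only [hg, Subgroup.coe_mul, Subgroup.coe_inv]
      rw [mul_inv_rev, inv_inv]
      calc (h : G)⁻¹ * (c : G)⁻¹ * (t * (k : G)) * ((c : G) * h)
          = (h : G)⁻¹ * (((c : G)⁻¹ * t) * (k : G) * c) * h := by group
        _ = (h : G)⁻¹ * ((t * (c : G)⁻¹) * (k : G) * c) * h := by
          rw [hcomm _ (inv_mem c.2)]
        _ = _ := by group
    show Cfsg.extendByZero H ψ _ = _
    rw [e, extendByZero_conj_of_mem H hψ (inv_mem h.2)]
  -- the fibres of `(c, h) ↦ c h`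
  have hfib : ∀ y : G, (∃ c : ↥K, ∃ h : ↥H, y = (c : G) * h) →
      (Finset.univ.filter fun p : ↥K × ↥H => (p.1 : G) * p.2 = y).card =
        Nat.card ↥(H.subgroupOf K) := by
    rintro y ⟨c₀, h₀, rfl⟩
    rw [Nat.card_eq_fintype_card, ← Finset.card_univ]
    symm
    refine Finset.card_bij
      (fun d _ => (c₀ * (d : ↥K), ⟨((d : ↥K) : G)⁻¹ * h₀, H.mul_mem (inv_mem (mem_subgroupOf.1 d.2)) h₀.2⟩))
      (fun d _ => ?_) (fun d _ d' _ e => ?_) (fun p hp => ?_)
    · simp [mul_assoc]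
    · exact Subtype.ext (mul_left_cancel (congrArg Prod.fst e))
    · simp only [Finset.mem_filter, Finset.mem_univ, true_and] at hp
      have hd : (c₀⁻¹ * p.1 : ↥K) ∈ H.subgroupOf K := by
        rw [mem_subgroupOf, Subgroup.coe_mul, Subgroup.coe_inv,
          show (c₀ : G)⁻¹ * (p.1 : G) = (h₀ : G) * (p.2 : G)⁻¹ by
            rw [eq_mul_inv_iff_mul_eq, mul_assoc, hp, inv_mul_cancel_left]]
        exact H.mul_mem h₀.2 (H.inv_mem p.2.2)
      refine ⟨⟨_, hd⟩, Finset.mem_univ _, Prod.ext (mul_inv_cancel_left _ _) (Subtype.ext ?_)⟩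
      show ((c₀ : G)⁻¹ * (p.1 : G))⁻¹ * h₀ = p.2
      rw [mul_inv_rev, inv_inv, mul_assoc, ← hp, inv_mul_cancel_left]
  have hsum : ∑ p : ↥K × ↥H, f ((p.1 : G) * p.2) =
      (Nat.card ↥(H.subgroupOf K) : ℂ) * ∑ y : G, f y := by
    rw [← Finset.sum_fiberwise (Finset.univ : Finset (↥K × ↥H))
      (fun p => (p.1 : G) * p.2) (fun p => f ((p.1 : G) * p.2)), Finset.mul_sum]
    refine Finset.sum_congr rfl fun y _ => ?_
    rw [Finset.sum_congr rfl fun p hp => congrArg f (Finset.mem_filter.1 hp).2, Finset.sum_const,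
      nsmul_eq_mul]
    by_cases hy : ∃ c : ↥K, ∃ h : ↥H, y = (c : G) * h
    · rw [hfib y hy]
    · push Not at hy
      rw [hzero y hy, mul_zero, mul_zero]
  have hprod : ∑ p : ↥K × ↥H, f ((p.1 : G) * p.2) = (Nat.card ↥H : ℂ) *
      ∑ c : ↥K, Cfsg.extendByZero H ψ (t * ((c⁻¹ * k * c : ↥K) : G)) := by
    rw [Fintype.sum_prod_type, Finset.mul_sum]
    refine Finset.sum_congr rfl fun c _ => ?_
    simp only [hval, Finset.sum_const, Finset.card_univ, nsmul_eq_mul, Nat.card_eq_fintype_card]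
  have hext : ∀ a : ↥K, Cfsg.extendByZero H ψ (t * (a : G)) =
      Cfsg.extendByZero (H.subgroupOf K) (secRestrict htH K ψ) a := by
    intro a
    by_cases ha : (a : G) ∈ H
    · rw [extendByZero_of_mem H ψ (H.mul_mem htH ha),
        extendByZero_of_mem (H.subgroupOf K) _ (mem_subgroupOf.2 ha)]
      rfl
    · rw [extendByZero_of_not_mem H ψ fun h => ha ((H.mul_mem_cancel_left htH).1 h),
        extendByZero_of_not_mem (H.subgroupOf K) _ fun h => ha (mem_subgroupOf.1 h)]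
  simp only [hext] at hprod
  have hH0 : (Nat.card ↥H : ℂ) ≠ 0 := subgroup_card_ne_zero H
  have hK0 : (Nat.card ↥(H.subgroupOf K) : ℂ) ≠ 0 := subgroup_card_ne_zero _
  show (Nat.card ↥H : ℂ)⁻¹ * ∑ y : G, f y = _
  rw [Cfsg.indFun]
  field_simp
  linear_combination hprod - hsum

/-- The section coefficients of an induced function. -/
theorem secCoeff_indFun
    (hK : Cfsg.IsInternalDirectProduct (zpowers t) K (centralizer ({t} : Set G)))
    (ht : orderOf t = 2) (htH : t ∈ H)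
    (hconj : ∀ y : G, y⁻¹ * t * y ∈ H → ∃ c ∈ centralizer ({t} : Set G), ∃ h ∈ H, y = c * h)
    [Fintype ↥(H.subgroupOf K)]
    {ψ : ↥H → ℂ} (hψ : Cfsg.IsClassFunction ↥H ψ) {φ : ↥K → ℂ}
    (hφ : Cfsg.IsClassFunction ↥K φ) (hφ0 : OddSupport φ) :
    secCoeff t K (Cfsg.indFun H ψ) φ =
      Cfsg.classInner (secRestrict htH K ψ) (fun k => φ k) := by
  rw [← frobenius_reciprocity (H.subgroupOf K) (secRestrict htH K ψ) hφ]
  simp only [secCoeff, Cfsg.classInner]
  refine congrArg ((Nat.card ↥K : ℂ)⁻¹ * ·) (Finset.sum_congr rfl fun k _ => ?_)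
  by_cases hk : 2 ∣ orderOf (k : G)
  · rw [hφ0 k hk, map_zero, mul_zero, mul_zero]
  · rw [indFun_section hK ht htH hconj hψ k hk]

/-- The difference of the coefficients of two exceptional characters. -/
theorem secCoeff_sub_of_indFun
    (hK : Cfsg.IsInternalDirectProduct (zpowers t) K (centralizer ({t} : Set G)))
    (ht : orderOf t = 2) (htH : t ∈ H)
    (hconj : ∀ y : G, y⁻¹ * t * y ∈ H → ∃ c ∈ centralizer ({t} : Set G), ∃ h ∈ H, y = c * h)
    [Fintype ↥(H.subgroupOf K)]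
    {χ χ' : ↥H → ℂ} (hχ : Cfsg.IsClassFunction ↥H χ) (hχ' : Cfsg.IsClassFunction ↥H χ')
    {θ θ' : G → ℂ} {ε : ℂ} (hε : ε = 1 ∨ ε = -1)
    (hind : Cfsg.indFun H χ - Cfsg.indFun H χ' = ε • (θ - θ'))
    {φ : ↥K → ℂ} (hφ : Cfsg.IsClassFunction ↥K φ) (hφ0 : OddSupport φ) :
    secCoeff t K θ φ - secCoeff t K θ' φ =
      ε * Cfsg.classInner (secRestrict htH K (χ - χ')) (fun k => φ k) := by
  have h := secCoeff_indFun hK ht htH hconj (ψ := χ - χ')
    (fun a b => by simp only [Pi.sub_apply, hχ a b, hχ' a b]) hφ hφ0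
  rw [indFun_sub, hind] at h
  rw [← h]
  simp only [secCoeff, Cfsg.classInner, Pi.smul_apply, Pi.sub_apply, smul_eq_mul]
  rw [← mul_sub, ← Finset.sum_sub_distrib, ← mul_assoc ε, mul_comm ε, mul_assoc, Finset.mul_sum,
    Finset.mul_sum, Finset.mul_sum]
  refine Finset.sum_congr rfl fun k _ => ?_
  rcases hε with rfl | rfl <;> ring

namespace Ctx

variable {S : Sylow 2 G} {u : G} {E E₀ : Subgroup G} (C : Ctx S u E E₀)
include C

/-- No non-trivial power of `x ∈ F` is conjugate to `x` other than `x` itself. -/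
theorem normalizer_zpowers_le {x : G} (hx : x ∈ fieldPart S) :
    normalizer (zpowers x : Set G) ≤ centralizer ({x} : Set G) := by
  intro g hg
  have h1 : g * x * g⁻¹ ∈ zpowers x := (mem_normalizer_iff.1 hg x).1 (mem_zpowers x)
  have h2 := C.conj_fieldPart_eq hx ((zpowers_le.2 hx) h1) rfl
  exact mem_centralizer_singleton_iff.2 (mul_inv_eq_iff_eq_mul.1 h2.symm)

/-- The conjugates of `u` in `C(x)` are conjugate under `C(x)`. -/
theorem conj_hyp {x : G} (hx : x ∈ fieldPart S) {y : G}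
    (hy : y⁻¹ * u * y ∈ centralizer ({x} : Set G)) :
    ∃ c ∈ centralizer ({u} : Set G), ∃ h ∈ centralizer ({x} : Set G), y = c * h := by
  haveI : Fact (Nat.Prime 2) := ⟨Nat.prime_two⟩
  set D := centralizer ({x} : Set G) with hD
  have hS : (S : Subgroup G) ≤ D := fun s hs =>
    mem_centralizer_singleton_iff.2 (comm_fieldPart_sylow hx hs).symm
  set v := y⁻¹ * u * y with hv
  have hv2 : orderOf v = 2 := by
    rw [hv, show y⁻¹ * u * y = y⁻¹ * u * y⁻¹⁻¹ by rw [inv_inv],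
      Involutions.Basic.orderOf_conj_eq]
    exact C.ord
  have hp : IsPGroup 2 (zpowers (⟨v, hy⟩ : D)) :=
    IsPGroup.of_card (n := 1) (by rw [Nat.card_zpowers, Subgroup.orderOf_mk, hv2, pow_one])
  obtain ⟨P, hP⟩ := hp.exists_le_sylow
  obtain ⟨d, hd⟩ := MulAction.exists_smul_eq D P (S.subtype hS)
  have hs : (d : G) * v * (d : G)⁻¹ ∈ (S : Subgroup G) := by
    have h1 : d * (⟨v, hy⟩ : D) * d⁻¹ ∈ (S.subtype hS : Subgroup D) := by
      rw [← hd, Sylow.coe_subgroup_smul]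
      exact Subgroup.smul_mem_pointwise_smul (a := MulAut.conj d) (⟨v, hy⟩ : D) _
        (hP (mem_zpowers _))
    rw [Sylow.coe_subtype] at h1
    exact mem_subgroupOf.1 h1
  have hs1 : (d : G) * v * (d : G)⁻¹ ≠ 1 := fun h => by
    rw [conj_eq_one_iff.1 h, orderOf_one] at hv2
    omega
  obtain ⟨n, hn, hnu⟩ := C.exists_conj_of_mem C.mem C.ne_one hs hs1
  have hnD : n ∈ D := mem_centralizer_singleton_iff.2 (C.comm_normalizer hn hx)
  refine ⟨y * ((d : G)⁻¹ * n), mem_centralizer_singleton_iff.2 ?_, ((d : G)⁻¹ * n)⁻¹,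
    inv_mem (mul_mem (inv_mem d.2) hnD), by group⟩
  calc y * ((d : G)⁻¹ * n) * u = y * ((d : G)⁻¹ * (n * u * n⁻¹) * n) := by group
    _ = y * (v * (d : G)⁻¹ * n) := by rw [hnu]; group
    _ = u * (y * ((d : G)⁻¹ * n)) := by rw [hv]; group

end Ctx

end Cfsg.Agent.Lib.Walter.NoField
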