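import Cfsg.Agent.Lib.Walter.NoField.Centralizer.Quot
import Cfsg.Agent.Lib.Walter.KnownFactsJR
import Cfsg.Agent.Lib.Induced.Burnside

/-!
# Section Z: the centraliser of a non-trivial element of odd order of `C(S)`

For `IsJR G`, `u ∈ S`, `C(u) = ⟨u⟩ × E` and `1 ≠ x ∈ C(S)` of odd order:
* `fixed_cases`: `E₀ ∩ C(x) ≅ PSL(2, q₀)`, `q = q₀ ^ o(x)`, and either `q₀ = 3` or it is of odd type;
* `coreIn_centralizer_eq`: `O(C(x)) = ⟨x⟩`;
* `centralizer_large`: if `q₀ ≥ 5`, `C(x)` modulo the core has a normal subgroup of odd index of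
  Janko–Ree type, with `E₀ ∩ C(x)` in the centraliser of `u`;
* `centralizer_small`: if `q₀ = 3`, involution centralisers of the quotient are solvable and it is
  solvable (then `C(x) ≤ N(S)`) or has a normal `PSL(2,8)` of odd index.

Owner: helper87.
-/

set_option autoImplicit false
set_option linter.style.haveILetI false
set_option linter.unusedSectionVars false

universe u

namespace Cfsg.Agent.Lib.Walter.NoField.Cent

open Subgroup JRCore

variable {G : Type u} [Group G] [Finite G] {S : Sylow 2 G} {t : G} {E E₀ : Subgroup G} {x : G}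

/-- The image of `E₀ ∩ C(x)` modulo the core. -/
def fixedBar (E₀ : Subgroup G) (x : G) : Subgroup (Quo (centralizer ({x} : Set G))) :=
  ((E₀ ⊓ centralizer ({x} : Set G)).subgroupOf (centralizer ({x} : Set G))).map
    (qm (centralizer ({x} : Set G)))

theorem mem_fixedBar {y : Quo (centralizer ({x} : Set G))} :
    y ∈ fixedBar E₀ x ↔ ∃ l : ↥(centralizer ({x} : Set G)), (l : G) ∈ E₀ ∧ qm _ l = y := by
  constructor
  · rintro ⟨l, hl, rfl⟩
    exact ⟨l, (mem_subgroupOf.1 hl).1, rfl⟩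
  · rintro ⟨l, hl, rfl⟩
    exact ⟨l, mem_subgroupOf.2 ⟨hl, l.2⟩, rfl⟩

/-- A simple non-abelian group has no proper normal subgroup with commutative quotient. -/
theorem le_of_commutator_le {X : Type u} [Group X] {W N : Subgroup X} (hs : IsSimpleGroup ↥W)
    (hn : ¬ IsMulCommutative ↥W) (h : ∀ a ∈ W, ∀ b ∈ W, a * b * a⁻¹ * b⁻¹ ∈ N) : W ≤ N := by
  haveI := hs
  have htop : commutator ↥W = ⊤ := by
    refine (Subgroup.Normal.eq_bot_or_eq_top (H := commutator ↥W) inferInstance).resolve_left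
      fun hb => hn ⟨⟨fun a b => ?_⟩⟩
    have := Subgroup.commutator_mem_commutator (mem_top a) (mem_top b)
    rw [← commutator_def, hb, mem_bot, commutatorElement_eq_one_iff_commute] at this
    exact this
  intro w hw
  have hle : commutator ↥W ≤ N.subgroupOf W := by
    rw [commutator_def, Subgroup.commutator_le]
    intro a _ b _
    exact h a a.2 b b.2
  exact mem_subgroupOf.1 (hle (htop ▸ mem_top (⟨w, hw⟩ : ↥W)))

section

variable (hG : IsJR G) (ht : orderOf t = 2) (htS : t ∈ (S : Subgroup G))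
  (hE : IsJRCentralizer t E E₀) (hxS : x ∈ centralizer ((S : Subgroup G) : Set G))
  (hxo : Odd (orderOf x))

include hG ht htS hE hxS hxo

/-- `q = q₀ ^ o(x)`, and `q₀ = 3` or `E₀ ∩ C(x)` is of odd type. -/
theorem fixed_cases : ∃ (F : Type) (_ : Field F) (_ : Fintype F) (F₀ : Type) (_ : Field F₀)
    (_ : Fintype F₀),
    Nonempty (↥E₀ ≃* Matrix.ProjectiveSpecialLinearGroup (Fin 2) F) ∧
    (Fintype.card F % 8 = 3 ∨ Fintype.card F % 8 = 5) ∧ 5 ≤ Fintype.card F ∧
    (Fintype.card F₀ % 8 = 3 ∨ Fintype.card F₀ % 8 = 5) ∧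
    Fintype.card F = Fintype.card F₀ ^ orderOf x ∧
    Nonempty (↥(E₀ ⊓ centralizer ({x} : Set G)) ≃*
      Matrix.ProjectiveSpecialLinearGroup (Fin 2) F₀) ∧
    (Fintype.card F₀ = 3 ∧ Nat.card ↥(E₀ ⊓ centralizer ({x} : Set G)) = 12 ∨
      5 ≤ Fintype.card F₀ ∧ IsOddType ↥(E₀ ⊓ centralizer ({x} : Set G))) := by
  obtain ⟨F, i1, i2, ⟨c⟩⟩ := exists_chart hG S ht htS hE
  obtain ⟨F₀, j1, j2, hq₀, hq, ⟨e⟩⟩ := c.exists_fixed_model hxS hxo
  refine ⟨F, i1, i2, F₀, j1, j2, ⟨c.φ⟩, c.card_mod, c.five, hq₀, hq, ⟨e⟩, ?_⟩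
  rcases (show Fintype.card F₀ = 3 ∨ 5 ≤ Fintype.card F₀ by omega) with h3 | h5
  · refine Or.inl ⟨h3, ?_⟩
    have h := Linear.two_mul_card_PSL_two_of_odd (F := F₀) (h3 ▸ by decide)
    rw [h3] at h
    rw [Nat.card_congr e.toEquiv]
    omega
  · exact Or.inr ⟨h5, F₀, j1, j2, hq₀, h5, ⟨e⟩⟩

/-- `E₀ ∩ C(x)` maps isomorphically. -/
theorem fixedBar_equiv :
    Nonempty (↥(E₀ ⊓ centralizer ({x} : Set G)) ≃* ↥(fixedBar E₀ x)) := by
  obtain ⟨F, _, _, ⟨c⟩⟩ := exists_chart hG S ht htS hE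
  let f : ↥(E₀ ⊓ centralizer ({x} : Set G)) →* Quo (centralizer ({x} : Set G)) :=
    (qm _).comp (Subgroup.inclusion inf_le_right)
  have hf : Function.Injective f := (injective_iff_map_eq_one f).2 fun l hl => by
    have h : (l : G) ∈ Balance.coreIn 2 (centralizer ({x} : Set G)) ⊓ E₀ :=
      ⟨(qm_eq_one_iff l.2.2).1 hl, l.2.1⟩
    rw [c.core_inf_eq_bot hxS hxo, mem_bot] at h
    exact Subtype.ext h
  refine ⟨(MonoidHom.ofInjective hf).trans (MulEquiv.subgroupCongr ?_)⟩
  ext y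
  rw [mem_fixedBar]
  constructor
  · rintro ⟨l, rfl⟩
    exact ⟨⟨l, l.2.2⟩, l.2.1, rfl⟩
  · rintro ⟨l, hl, rfl⟩
    exact ⟨⟨l, hl, l.2⟩, rfl⟩

/-- The image of `E₀ ∩ C(x)` centralises the image of `u`. -/
theorem fixedBar_le :
    fixedBar E₀ x ≤ centralizer ({qm _ ⟨t, sylow_le_centralizer hxS htS⟩} :
      Set (Quo (centralizer ({x} : Set G)))) := by
  intro y hy
  obtain ⟨l, hl, rfl⟩ := mem_fixedBar.1 hy
  rw [mem_centralizer_singleton_iff, ← map_mul, ← map_mul]
  exact congrArg _ (Subtype.ext ((conf_of hG ht hE).mem_cent _ (hE.2.1 hl)))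

/-- The centraliser of the image of `u` is commutative modulo the image of `E₀ ∩ C(x)`. -/
theorem commutator_mem_fixedBar {y y' : Quo (centralizer ({x} : Set G))}
    (hy : y ∈ centralizer ({qm _ ⟨t, sylow_le_centralizer hxS htS⟩} :
      Set (Quo (centralizer ({x} : Set G)))))
    (hy' : y' ∈ centralizer ({qm _ ⟨t, sylow_le_centralizer hxS htS⟩} :
      Set (Quo (centralizer ({x} : Set G))))) :
    y * y' * y⁻¹ * y'⁻¹ ∈ fixedBar E₀ x := by
  obtain ⟨F, _, _, ⟨c⟩⟩ := exists_chart hG S ht htS hE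
  obtain ⟨g, hgt, rfl⟩ := exists_lift_commute hG hxS hxo htS (mem_centralizer_singleton_iff.1 hy)
  obtain ⟨g', hgt', rfl⟩ := exists_lift_commute hG hxS hxo htS (mem_centralizer_singleton_iff.1 hy')
  refine mem_fixedBar.2 ⟨g * g' * g⁻¹ * g'⁻¹, ?_, by
    rw [map_mul, map_mul, map_mul, map_inv, map_inv]⟩
  set L := E₀ ⊓ centralizer ({x} : Set G) with hLdef
  set H := centralizer ({t} : Set G) ⊓ centralizer ({x} : Set G) with hHdef
  have hLn : (L.subgroupOf H).Normal := ⟨fun l hl h => by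
    rw [mem_subgroupOf] at hl ⊢
    exact ⟨c.conf.conj_E₀ (mem_centralizer_singleton_iff.1 h.2.1) hl.1,
      (centralizer ({x} : Set G)).mul_mem ((centralizer ({x} : Set G)).mul_mem h.2.2 hl.2)
        ((centralizer ({x} : Set G)).inv_mem h.2.2)⟩⟩
  haveI := hLn
  set π := QuotientGroup.mk' (L.subgroupOf H)
  have key : ∀ k : ↥(centralizer ({x} : Set G)), (k : G) * t = t * k → ∀ hk : (k : G) ∈ H,
      ∃ p : ↥H, π ⟨k, hk⟩ = π p ∧ ∃ e z : G, (e = 1 ∨ e = t) ∧
        z ∈ centralizer ((S : Subgroup G) : Set G) ∧ Odd (orderOf z) ∧ (p : G) = e * z := by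
    intro k hkt hk
    obtain ⟨e, he, l, hl, z, hz, hzo, hzx, hg⟩ :=
      c.exists_decomp_cent hxS hxo hkt (mem_centralizer_singleton_iff.1 k.2)
    have hlt : l * t = t * l := c.conf.mem_cent l (hE.2.1 hl.1)
    have hlH : l ∈ H := ⟨mem_centralizer_singleton_iff.2 hlt, hl.2⟩
    have heH : e ∈ H := by
      rcases he with rfl | rfl
      · exact one_mem _
      · exact ⟨mem_centralizer_singleton_iff.2 rfl, sylow_le_centralizer hxS htS⟩
    have hzH : z ∈ H :=
      ⟨mem_centralizer_singleton_iff.2 (mem_centralizer_iff.1 hz t htS).symm,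
        mem_centralizer_singleton_iff.2 hzx⟩
    refine ⟨⟨e, heH⟩ * ⟨z, hzH⟩, ?_, e, z, he, hz, hzo, rfl⟩
    have hl1 : π ⟨l, hlH⟩ = 1 := (QuotientGroup.eq_one_iff _).2 (mem_subgroupOf.2 hl)
    rw [show (⟨(k : G), hk⟩ : ↥H) = ⟨e, heH⟩ * ⟨l, hlH⟩ * ⟨z, hzH⟩ from Subtype.ext hg, map_mul,
      map_mul, map_mul, hl1, mul_one]
  have hgH : (g : G) ∈ H := ⟨mem_centralizer_singleton_iff.2 hgt, g.2⟩
  have hgH' : (g' : G) ∈ H := ⟨mem_centralizer_singleton_iff.2 hgt', g'.2⟩
  obtain ⟨p, hp, e, z, he, hz, hzo, hpe⟩ := key g hgt hgH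
  obtain ⟨p', hp', e', z', he', hz', hzo', hpe'⟩ := key g' hgt' hgH'
  have hpp : Commute p p' := by
    obtain ⟨hzE, hzt, hza, hzb, -⟩ := c.of_mem_centralizer hz hzo
    obtain ⟨hzE', hzt', hza', hzb', -⟩ := c.of_mem_centralizer hz' hzo'
    have hzz : Commute z z' := c.commute_fix hzE hzE' hzo hzo' hza hzb hza' hzb'
    have hee : ∀ {w}, w * t = t * w → Commute e w ∧ Commute e' w := fun {w} hw => by
      constructor
      · rcases he with rfl | rfl
        exacts [Commute.one_left w, hw.symm]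
      · rcases he' with rfl | rfl
        exacts [Commute.one_left w, hw.symm]
    have hee' : Commute e e' := by
      rcases he' with rfl | rfl
      · exact Commute.one_right e
      · exact (hee rfl).1
    refine Subtype.ext ?_
    show (p : G) * p' = p' * p
    rw [hpe, hpe']
    exact (((hee'.mul_right (hee hzt').1)).mul_left ((hee hzt).2.symm.mul_right hzz)).eq
  have h1 : π (⟨g, hgH⟩ * ⟨g', hgH'⟩ * ⟨g, hgH⟩⁻¹ * ⟨g', hgH'⟩⁻¹) = 1 := by
    rw [map_mul, map_mul, map_mul, map_inv, map_inv, hp, hp', (hpp.map π).eq, mul_inv_cancel_right,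
      mul_inv_cancel]
  exact (mem_subgroupOf.1 ((QuotientGroup.eq_one_iff _).1 h1)).1

/-- The case `q₀ ≥ 5`. -/
theorem centralizer_large (hK : PropKnown.{u}) (hL : PropKnownFacts.{u}) (hx1 : x ≠ 1)
    (hodd : IsOddType ↥(E₀ ⊓ centralizer ({x} : Set G))) :
    ∃ K : Subgroup (Quo (centralizer ({x} : Set G))), Cfsg.IsComponent K ∧ K.Normal ∧ Odd K.index ∧
      centralizer (K : Set (Quo (centralizer ({x} : Set G)))) = ⊥ ∧
      (quoSylow (sylow_le_centralizer hxS) : Subgroup _) ≤ K ∧ fixedBar E₀ x ≤ K ∧ IsJR ↥K ∧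
      ∀ v : ↥K, (v : Quo (centralizer ({x} : Set G))) = qm _ ⟨t, sylow_le_centralizer hxS htS⟩ →
        ∀ E' E₀' : Subgroup ↥K, IsJRCentralizer v E' E₀' →
          E₀'.map K.subtype = fixedBar E₀ x := by
  haveI : Fact (Nat.Prime 2) := ⟨Nat.prime_two⟩
  set L := fixedBar E₀ x with hLdef
  obtain ⟨eL⟩ := fixedBar_equiv hG ht htS hE hxS hxo
  have hLf := hL.1 _ (Or.inr (Or.inl hodd))
  have hLs : IsSimpleGroup ↥L := haveI := hLf.simple; eL.symm.isSimpleGroup
  have hLn : ¬ IsMulCommutative ↥L := fun h => hLf.nonabelian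
    ⟨⟨fun a b => eL.injective (by rw [map_mul, map_mul]; exact h.1.1 _ _)⟩⟩
  haveI := hLs
  have hLns : ¬ Group.IsSolvable ↥L := fun h =>
    hLn ⟨⟨IsSimpleGroup.comm_iff_isSolvable.2 h⟩⟩
  have hXns : ¬ Group.IsSolvable (Quo (centralizer ({x} : Set G))) := fun h => by
    haveI := h
    exact hLns inferInstance
  have hSC := sylow_le_centralizer hxS
  have hX := goodQuo (hyp_of hK hG) hL (centralizer_ne_top hG hx1)
  have h8 := eightQuo hSC (fun a ha => by
    have := (hG.elementary S).2 a ha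
    rwa [pow_two] at this) (hG.card_sylow S)
  obtain ⟨K, hKc⟩ := JRBal.exists_component hX h8 hXns
  obtain ⟨hKn, hTK, hCK, hKi, hkn, -⟩ := component_props hG hxS hxo hK hL hx1 hKc
  haveI := hKn
  have hLK : L ≤ K := by
    rcases Subgroup.Normal.eq_bot_or_eq_top (H := ((QuotientGroup.mk' K).comp L.subtype).ker)
      inferInstance with h | h
    · exfalso
      apply hLns
      haveI : Group.IsSolvable (Quo (centralizer ({x} : Set G)) ⧸ K) :=
        OddOrder.FeitThompson.isSolvable_of_odd_card (by rwa [← index_eq_card])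
      exact Group.isSolvable_of_isSolvable_injective ((MonoidHom.ker_eq_bot_iff _).1 h)
    · intro l hl
      have h' : (⟨l, hl⟩ : ↥L) ∈ ((QuotientGroup.mk' K).comp L.subtype).ker := h ▸ mem_top _
      exact (QuotientGroup.eq_one_iff _).1 h'
  have htK := hTK (qm_mem_quoSylow hSC htS)
  have hu : orderOf (⟨_, htK⟩ : ↥K) = 2 := by
    refine orderOf_eq_prime (Subtype.ext ?_) fun h => ?_
    · show qm _ ⟨t, hSC htS⟩ ^ 2 = 1
      rw [pow_two, h8.sq _ (qm_mem_quoSylow hSC htS)]
    · exact qm_ne_one hSC htS (Walter66.ne_one_of_ord ht) (congrArg Subtype.val h)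
  have hJR : IsJR ↥K := by
    by_contra hn
    haveI := (hL.1 ↥K hkn).solvable hn _ hu
    apply hLns
    let φ : ↥L →* ↥(centralizer ({(⟨_, htK⟩ : ↥K)} : Set ↥K)) :=
      { toFun := fun l => ⟨⟨l, hLK l.2⟩, mem_centralizer_singleton_iff.2 (Subtype.ext
          (mem_centralizer_singleton_iff.1 (fixedBar_le hG ht htS hE hxS hxo l.2)))⟩
        map_one' := rfl
        map_mul' := fun _ _ => rfl }
    refine Group.isSolvable_of_isSolvable_injective (f := φ) fun a b h => ?_
    have h1 := congrArg Subtype.val (congrArg Subtype.val h)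
    exact Subtype.ext h1
  refine ⟨K, hKc, hKn, hKi, hCK, hTK, hLK, hJR, fun v hv E' E₀' h' => ?_⟩
  have hv2 : orderOf v = 2 := by
    rw [show v = ⟨_, htK⟩ from Subtype.ext hv]; exact hu
  have hf := Known.jr_odd_facts hv2 h'
  set W := E₀'.map K.subtype with hW
  let eW : ↥E₀' ≃* ↥W := E₀'.equivMapOfInjective K.subtype K.subtype_injective
  have hWs : IsSimpleGroup ↥W := haveI := hf.simple; eW.symm.isSimpleGroup
  have hWn : ¬ IsMulCommutative ↥W := fun h => hf.nonabelian
    ⟨⟨fun a b => eW.injective (by rw [map_mul, map_mul]; exact h.1.1 _ _)⟩⟩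
  have hWc : W ≤ centralizer ({qm _ ⟨t, hSC htS⟩} : Set (Quo (centralizer ({x} : Set G)))) := by
    rintro _ ⟨w, hw, rfl⟩
    rw [mem_centralizer_singleton_iff, ← hv]
    exact congrArg Subtype.val (Known.jr_commute hv2 h' (h'.2.1 hw))
  have hWL : W ≤ L := le_of_commutator_le hWs hWn fun a ha b hb =>
    commutator_mem_fixedBar hG ht htS hE hxS hxo (hWc ha) (hWc hb)
  refine le_antisymm hWL ?_
  have hnorm : L ≤ normalizer (W : Set (Quo (centralizer ({x} : Set G)))) := fun l hl => by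
    have hlv : (⟨l, hLK hl⟩ : ↥K) * v = v * ⟨l, hLK hl⟩ := Subtype.ext (by
      show l * (v : Quo (centralizer ({x} : Set G))) = v * l
      rw [hv]
      exact mem_centralizer_singleton_iff.1 (fixedBar_le hG ht htS hE hxS hxo hl))
    exact le_normalizer_map K.subtype ⟨_, Known.jr_normalizes hv2 h' hlv, rfl⟩
  haveI : (W.subgroupOf L).Normal := (normal_subgroupOf_iff_le_normalizer hWL).2 hnorm
  rcases Subgroup.Normal.eq_bot_or_eq_top (H := W.subgroupOf L) inferInstance with h | h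
  · exfalso
    apply hWn
    have hb : W = ⊥ := by
      have := subgroupOf_eq_bot.1 h
      rw [disjoint_iff, inf_eq_left.2 hWL] at this
      exact this
    refine ⟨⟨fun a b => Subtype.ext ?_⟩⟩
    have h1 : ∀ a : ↥W, (a : Quo (centralizer ({x} : Set G))) = 1 := fun a => mem_bot.1 (hb.le a.2)
    show (a : Quo (centralizer ({x} : Set G))) * b = b * a
    rw [h1 a, h1 b]
  · exact subgroupOf_eq_top.1 h

/-- The case `q₀ = 3`. -/
theorem centralizer_small (hK : PropKnown.{u}) (hL : PropKnownFacts.{u}) (hx1 : x ≠ 1)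
    (h12 : Nat.card ↥(E₀ ⊓ centralizer ({x} : Set G)) = 12) :
    (∀ y : Quo (centralizer ({x} : Set G)), orderOf y = 2 →
      Group.IsSolvable ↥(centralizer ({y} : Set (Quo (centralizer ({x} : Set G)))))) ∧
    (Group.IsSolvable (Quo (centralizer ({x} : Set G))) ∧
        centralizer ({x} : Set G) ≤ normalizer ((S : Subgroup G) : Set G) ∨
      ∃ K : Subgroup (Quo (centralizer ({x} : Set G))), Cfsg.IsComponent K ∧ K.Normal ∧ Odd K.index ∧
        centralizer (K : Set (Quo (centralizer ({x} : Set G)))) = ⊥ ∧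
        (quoSylow (sylow_le_centralizer hxS) : Subgroup _) ≤ K ∧
        IsEvenType ↥K ∧ Nat.card ↥K = 504) := by
  haveI : Fact (Nat.Prime 2) := ⟨Nat.prime_two⟩
  by_cases hsol : Group.IsSolvable (Quo (centralizer ({x} : Set G)))
  · haveI := hsol
    exact ⟨fun y _ => inferInstance,
      Or.inl ⟨hsol, le_normalizer_of_solvable hG hxS hxo hK hL hx1 hsol⟩⟩
  have hSC := sylow_le_centralizer hxS
  have hX := goodQuo (hyp_of hK hG) hL (centralizer_ne_top hG hx1)
  have h8 := eightQuo hSC (fun a ha => by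
    have := (hG.elementary S).2 a ha
    rwa [pow_two] at this) (hG.card_sylow S)
  obtain ⟨K, hKc⟩ := JRBal.exists_component hX h8 hsol
  obtain ⟨hKn, hTK, hCK, hKi, hkn, hK8⟩ := component_props hG hxS hxo hK hL hx1 hKc
  haveI := hKn
  have hnJ : ¬ IsJR ↥K := by
    intro hJ
    set uq := qm _ ⟨t, hSC htS⟩ with huq
    have hu : orderOf (⟨uq, hTK (qm_mem_quoSylow hSC htS)⟩ : ↥K) = 2 := by
      refine orderOf_eq_prime (Subtype.ext ?_) fun h => ?_
      · show uq ^ 2 = 1
        rw [pow_two, h8.sq _ (qm_mem_quoSylow hSC htS)]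
      · exact qm_ne_one hSC htS (Walter66.ne_one_of_ord ht) (congrArg Subtype.val h)
    obtain ⟨E', E₀', h'⟩ := hJ.centralizer _ hu
    have hf := Known.jr_odd_facts hu h'
    let eW : ↥E₀' ≃* ↥(E₀'.map K.subtype) :=
      E₀'.equivMapOfInjective K.subtype K.subtype_injective
    have hWs : IsSimpleGroup ↥(E₀'.map K.subtype) := haveI := hf.simple; eW.symm.isSimpleGroup
    have hWn : ¬ IsMulCommutative ↥(E₀'.map K.subtype) := fun h => hf.nonabelian
      ⟨⟨fun a b => eW.injective (by rw [map_mul, map_mul]; exact h.1.1 _ _)⟩⟩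
    have hWc : ∀ a ∈ E₀'.map K.subtype, a ∈ centralizer ({uq} : Set _) := by
      rintro _ ⟨w, hw, rfl⟩
      rw [mem_centralizer_singleton_iff]
      exact congrArg Subtype.val (Known.jr_commute hu h' (h'.2.1 hw))
    have hle : E₀'.map K.subtype ≤ fixedBar E₀ x := le_of_commutator_le hWs hWn fun a ha b hb =>
      commutator_mem_fixedBar hG ht htS hE hxS hxo (hWc a ha) (hWc b hb)
    obtain ⟨eL⟩ := fixedBar_equiv hG ht htS hE hxS hxo
    haveI : Group.IsSolvable ↥(fixedBar E₀ x) :=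
      Induced.Burnside.isSolvable_of_card_eq 2 3 2 1 Nat.prime_two Nat.prime_three
        (by rw [← Nat.card_congr eL.toEquiv, h12]; rfl)
    haveI := hWs
    exact hWn ⟨⟨IsSimpleGroup.comm_iff_isSolvable.2
      (Group.isSolvable_of_isSolvable_injective (Subgroup.inclusion_injective hle))⟩⟩
  have hcent : ∀ y : Quo (centralizer ({x} : Set G)), orderOf y = 2 →
      Group.IsSolvable ↥(centralizer ({y} : Set (Quo (centralizer ({x} : Set G))))) := by
    intro y hy
    have hyK : y ∈ K := by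
      have h1 : QuotientGroup.mk' K y = 1 := by
        have ho : Odd (orderOf (QuotientGroup.mk' K y)) := by
          refine hKi.of_dvd_nat ?_
          rw [index_eq_card]
          exact orderOf_dvd_natCard _
        refine orderOf_eq_one_iff.1 (Nat.eq_one_of_dvd_coprimes (Nat.coprime_two_left.2 ho) ?_ dvd_rfl)
        exact (orderOf_map_dvd (QuotientGroup.mk' K) y).trans hy.dvd
      exact (QuotientGroup.eq_one_iff y).1 h1
    have hy' : orderOf (⟨y, hyK⟩ : ↥K) = 2 := by rw [Subgroup.orderOf_mk]; exact hy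
    have hsol' := (hL.1 ↥K hkn).solvable hnJ _ hy'
    set C := centralizer ({y} : Set (Quo (centralizer ({x} : Set G))))
    refine JRBal.solvable_of_hom ((QuotientGroup.mk' K).comp C.subtype) ?_ ?_
    · let φ : ((QuotientGroup.mk' K).comp C.subtype).ker →*
          ↥(centralizer ({(⟨y, hyK⟩ : ↥K)} : Set ↥K)) :=
        { toFun := fun w => ⟨⟨((w : C) : _), (QuotientGroup.eq_one_iff _).1 w.2⟩,
            mem_centralizer_singleton_iff.2 (Subtype.ext
              (mem_centralizer_singleton_iff.1 (w : C).2))⟩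
          map_one' := rfl
          map_mul' := fun _ _ => rfl }
      haveI := hsol'
      refine Group.isSolvable_of_isSolvable_injective (f := φ) fun a b h => ?_
      have h' := congrArg Subtype.val (congrArg Subtype.val h)
      exact Subtype.ext (Subtype.ext h')
    · exact OddOrder.FeitThompson.isSolvable_of_odd_card (by rwa [← index_eq_card])
  refine ⟨hcent, Or.inr ⟨K, hKc, hKn, hKi, hCK, hTK, ?_⟩⟩
  rcases hkn with hev | hod | hJ
  · refine ⟨hev, ?_⟩
    obtain ⟨n, F, _, _, hn, hF, ⟨e⟩⟩ := hev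
    have he : Even (Fintype.card F) := by
      rw [hF, Nat.even_pow]; exact ⟨even_two, by omega⟩
    obtain ⟨P⟩ : Nonempty (Sylow 2 ↥K) := inferInstance
    have hd : 2 ^ n ∣ Nat.card ↥K := by
      rw [Nat.card_congr e.toEquiv, Linear.card_PSL_two_of_even he, hF, mul_assoc]
      exact dvd_mul_right _ _
    have h2 := P.pow_dvd_card_of_pow_dvd_card hd
    rw [hK8 P] at h2
    have hn3 : n ≤ 3 := (Nat.pow_dvd_pow_iff_le_right (by norm_num)).1 (show 2 ^ n ∣ 2 ^ 3 from h2)
    rw [Nat.card_congr e.toEquiv, Linear.card_PSL_two_of_even he, hF, show n = 3 by omega]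
    rfl
  · obtain ⟨P⟩ : Nonempty (Sylow 2 ↥K) := inferInstance
    have := (hL.2 ↥K hod).four P
    rw [hK8 P] at this
    omega
  · exact absurd hJ hnJ

end

end Cfsg.Agent.Lib.Walter.NoField.Cent
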