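import Cfsg.Agent.Lib.Walter.NoField.BigTorus.Chars
import Cfsg.Agent.Lib.Walter.NoField.BigTorus.Coprime

/-!
# Section Z, big case: the torus, assembled

`exists_bigTorus`: in the big case with bad primes there are `D : GSide.TorusData u E` with
`U = O(C⟨u,w⟩)`, `T₀ = C_T(F)` and a character `θ` as needed by the torus functions; every linear
character of `E` is a twist.

Owner: helper66.
-/

set_option autoImplicit false
set_option linter.unusedSectionVars false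
set_option linter.style.haveILetI false

universe u

namespace Cfsg.Agent.Lib.Walter.NoField

open Subgroup Cfsg.Agent.Lib.JankoThompson

variable {G : Type u} [Group G] [Finite G]

theorem exists_bigTorus (hK : PropKnown.{u}) (hL : PropKnownFacts.{u}) (hO : PropOrder.{u})
    (hIH : SmallerNoField G) {S : Sylow 2 G} {u : G} {E E₀ : Subgroup G} (C : Ctx S u E E₀)
    (hF : fieldPart S ≠ ⊥) (hbad : BadPrimes S E₀) (hb : FixedBig S E₀) {k : ℕ} {K K₀ : Type}
    [Field K] [Fintype K] [Field K₀] [Fintype K₀] (B : BigFields S E₀ k K K₀) :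
    GSide.Cent u E (Fintype.card K) (Nat.card ↥(fieldPart S)) ∧ GSide.FixedOdd u ∧
    ∃ D : GSide.TorusData u E, D.s ∈ (S : Subgroup G) ∧ D.s ∈ E₀ ∧ D.w ∈ (S : Subgroup G) ∧
      D.w ∈ E₀ ∧ D.r ∈ normalizer ((S : Subgroup G) : Set G) ∧ fieldPart S ≤ D.U ∧
      D.T ≤ E₀ ∧ D.T₀ = D.T ⊓ centralizer (fieldPart S : Set G) ∧
      Nat.card ↥D.U = Nat.card ↥D.T * Nat.card ↥(fieldPart S) ∧
      4 * Nat.card ↥D.T = Fintype.card K + 1 ∧ 4 * Nat.card ↥D.T₀ = Fintype.card K₀ + 1 ∧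
      Nat.Coprime (Nat.card ↥(fieldPart S)) (Nat.card ↥D.T₀) ∧
      (∀ a ∈ D.T₀, Commute D.r a → a = 1) ∧
      (∀ lam : ↥E →* ℂˣ, D.IsTwist (lam.comp (Subgroup.inclusion D.U_le))) ∧
      ∃ θ : ↥D.U →* ℂˣ, D.IsTheta θ ∧ D.IsFree θ ∧
        ∀ x : ↥D.U, (x : G) ∈ fieldPart S → θ x = 1 := by
  obtain ⟨w, v, hw, hwE, hw1, hv, hvE, hv1, hvw⟩ := C.exists_frame
  obtain ⟨r, hr, hr3⟩ := C.exists_pairCycle_cube hw hwE hw1
  obtain ⟨x, hx, hx1⟩ := exists_ne_one_fieldPart hF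
  have hfree := fun a ha h => C.rot_free hw hwE hw1 hK hL hO hIH hx hx1 (fixedBig_at hb hx) hr hr3
    (a := a) ha h
  have hcent := C.centFixed hw hwE hw1 hK hL hO hIH hF hb
  have hco := C.coprime_fixedTorus hw hwE hw1 B hbad
  refine ⟨C.sideCent hw hwE hw1 B, C.fixedOdd,
    C.torusData hw hwE hw1 hv hvE hv1 hvw hr hr3 hcent, hw, hwE, hv, hvE, hr.mem,
    C.fieldPart_le_pairCore hw hwE hw1, C.torus_le_E₀ hw hwE hw1, rfl,
    C.card_pairCore hw hwE hw1, C.four_mul_card_torus hw hwE hw1 B,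
    C.four_mul_card_fixedTorus hw hwE hw1 B, hco, hfree,
    C.isTwist_lin hw hwE hw1 hv hvE hv1 hvw hr hr3 hcent, ?_⟩
  exact C.exists_theta hw hwE hw1 hv hvE hv1 hvw hr hr3 hcent
    (C.fixedTorus_ne_bot hw hwE hw1 B) hco hfree

end Cfsg.Agent.Lib.Walter.NoField
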