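import Cfsg.Agent.Lib.Walter.NoField.BigPsi.Final
import Cfsg.Agent.Lib.Walter.NoField.BigPsi.Centre
import Cfsg.Agent.Lib.Walter.NoField.BigPsi.Line
import Cfsg.Agent.Lib.Walter.NoField.BigPsi.Psi
import Cfsg.Agent.Lib.Walter.NoField.BigTorus

/-!
# Section Z: all primes bad and a large fixed group

Owner: helper12.
-/

set_option autoImplicit false
set_option linter.unusedSectionVars false
set_option linter.style.haveILetI false

universe u

namespace Cfsg.Agent.Lib.Walter.NoField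

open Subgroup JRCore Cfsg.Agent.Lib.JankoThompson

set_option maxHeartbeats 1000000 in
/-- All primes bad and a fixed group larger than `A₅`: impossible. -/
theorem propBigBad : PropBigBad.{u} := by
  intro hK hL hO G _ _ S u E E₀ C hIH hF hbad hb
  classical
  letI := Fintype.ofFinite G
  letI := Fintype.ofFinite ↥E
  obtain ⟨k, K, _, _, K₀, _, _, B⟩ := C.exists_bigFields hK hL hO hIH hF hb
  obtain ⟨w, v, hw, hwE, hw1, hv, hvE, hv1, hvw⟩ := C.exists_frame
  obtain ⟨r, hr, hr3⟩ := C.exists_pairCycle_cube hw hwE hw1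
  obtain ⟨x, hx, hx1⟩ := exists_ne_one_fieldPart hF
  have hcent := C.centFixed hw hwE hw1 hK hL hO hIH hF hb
  obtain ⟨θ, hθ, hθf, hθF⟩ := C.exists_theta hw hwE hw1 hv hvE hv1 hvw hr hr3 hcent
    (C.fixedTorus_ne_bot hw hwE hw1 B) (C.coprime_fixedTorus hw hwE hw1 B hbad)
    fun a ha h => C.rot_free hw hwE hw1 hK hL hO hIH hx hx1 (fixedBig_at hb hx) hr hr3 (a := a) ha h
  obtain ⟨l, hl, hlF⟩ := Nat.exists_prime_and_dvd (n := Nat.card ↥(fieldPart S)) fun h =>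
    hF (Subgroup.card_eq_one.1 h)
  haveI := Fact.mk hl
  obtain ⟨a, y, Ky, _, _, A⟩ := C.exists_atY B hbad hl hlF
  have hy1 : y ≠ 1 := fun h => by
    have h' : 2 ≤ l ^ a := hl.two_le.trans (Nat.le_self_pow (by have := A.pos; omega) l)
    rw [← A.order, h, orderOf_one] at h'
    omega
  obtain ⟨N, hN⟩ := Isometry.exists_exponent G l
  obtain ⟨Ω, _, _, hΩ2, hΩ, ⟨ω, hω⟩, hfix⟩ :=
    BigPsi.exists_line C B.card_mod B.psl
  haveI := hΩ2
  letI := Fintype.ofFinite ↥((C.torusData hw hwE hw1 hv hvE hv1 hvw hr hr3 hcent).H₀ ⊓ centralizer ({y} : Set G))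
  letI := Fintype.ofFinite ↥(BigPsi.stabG E Ω ω ⊓ centralizer ({y} : Set G))
  obtain ⟨-, Kc, hKn, -, -, huK, c, hmap, -, -, hdec, hker⟩ :=
    BigPsi.exists_centre hK hL hO hIH C A.mem hy1 A.mod8 A.ge27 A.psl
  haveI := hKn
  have hΛ : ∀ lam : ↥E →* ℂˣ, ∃ Λ : ↥(centralizer ({y} : Set G)) →* ℂˣ,
      (∀ h : ↥(centralizer ({y} : Set G)), (h : G) = u → Λ h = 1) ∧
      ∀ (g : ↥(centralizer ({y} : Set G))) (hg : (g : G) ∈ E),
        (Λ g : ℂ) = (lam ⟨_, hg⟩ : ℂ) * starRingEnd ℂ (lam (⟨_, hg⟩ ^ N) : ℂ) := by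
    refine BigPsi.exists_lambda C A.mem (fun z hz => (hN z).2 ⟨a, ?_⟩)
      ((QuotientGroup.mk' Kc).comp (qm (centralizer ({y} : Set G)))) (fun X => ?_) (fun f hf h => ?_)
      (fun g hg => ?_) fun g hg => ?_
    · obtain ⟨i, rfl⟩ := mem_zpowers_iff.1 hz
      rw [← zpow_natCast, ← zpow_mul, mul_comm, zpow_mul, zpow_natCast, ← A.order,
        pow_orderOf_eq_one, one_zpow]
    · obtain ⟨x, rfl⟩ := QuotientGroup.mk'_surjective Kc X
      obtain ⟨k', hk', f, hf, rfl⟩ := hdec x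
      refine ⟨f, hf, ?_⟩
      rw [MonoidHom.comp_apply, map_mul,
        show QuotientGroup.mk' Kc k' = 1 from (QuotientGroup.eq_one_iff _).2 hk', one_mul]
    · exact hker f hf ((QuotientGroup.eq_one_iff _).1 h)
    · rw [MonoidHom.comp_apply]
      refine (QuotientGroup.eq_one_iff _).2 (Subgroup.map_subtype_le c.K ?_)
      rw [hmap]
      exact Cent.mem_fixedBar.2 ⟨g, hg, rfl⟩
    · rw [MonoidHom.comp_apply]
      refine (QuotientGroup.eq_one_iff _).2 ?_
      rw [show g = ⟨u, Cent.sylow_le_centralizer (fieldPart_le_centralizer S A.mem) C.mem⟩ from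
        Subtype.ext hg]
      exact huK
  obtain ⟨ψ₀, n, r', e, hψker, hcard, hr', hdeg, zc, za, hzc, hza, hzc', hza'⟩ :=
    BigPsi.exists_psi hK hL hO hIH C hw hwE hw1 hv hvE hv1 hvw hr hr3 hcent A hθ hθF
      (C.coprime_fixedTorus hw hwE hw1 B hbad) Ω ω hω
      (hfix ⟨y, C.fieldPart_le A.mem⟩ A.mem Ky (Nat.odd_iff.2 (by have := A.mod8; omega)) A.psl)
  exact BigPsi.false_of_psi C B.card_ge (C.sideCent hw hwE hw1 B) C.fixedOdd
    (C.torusData hw hwE hw1 hv hvE hv1 hvw hr hr3 hcent) hwE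
    (C.fieldPart_le_pairCore hw hwE hw1) (C.four_mul_card_torus hw hwE hw1 B)
    (C.card_pairCore hw hwE hw1) (C.isTwist_lin hw hwE hw1 hv hvE hv1 hvw hr hr3 hcent) hθ hθf hθF
    A.seven A.mem A.order A.pos A.not_dvd_cent hN Ω hΩ ω hω hΛ ψ₀ hψker hcard hr' hdeg
    (fun h => by rw [h] at hzc; exact Int.not_odd_zero hzc)
    (fun h => by rw [h] at hza; exact Int.not_odd_zero hza) hzc' hza'

end Cfsg.Agent.Lib.Walter.NoField
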