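/-
Walter section Z, part B (scaling): the four degree equations of a block of an involution centraliser
`2 × E` are homogeneous of degree `-1` in the degrees, so with the value of `K` of the small Ree
configuration they force the block to contain a linear character.
-/
import Mathlib

set_option autoImplicit false

namespace Cfsg.Agent.Lib.Walter.NoField

/-- A block satisfying the degree equations with the Ree value of `K` has a linear character. -/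
theorem scaling_one {Q a₀ a d₁ d₂ b₁ b₂ : ℤ} {K : ℚ} (hQ : 11 ≤ |Q|) (hQ8 : Q % 8 = 3)
    (h0 : a₀ % 8 = 1) (ha : a % 8 = 1) (hd₁ : d₁ ≠ 0) (hd₂ : d₂ ≠ 0) (hb₁ : b₁ ≠ 0) (hb₂ : b₂ ≠ 0)
    (hx : a - d₂ ≠ 0) (hy : d₁ + 2 * (b₁ + b₂) - a₀ ≠ 0)
    (hs : a₀ + a + d₁ + d₂ = 0) (hs' : b₁ + b₂ + d₁ + d₂ = 0)
    (hA : 1 / (a₀ : ℚ) + 1 / (a : ℚ) + (Q : ℚ) ^ 2 * (1 / (d₁ : ℚ) + 1 / (d₂ : ℚ)) =
      K * ((Q : ℚ) - 1))
    (hB : (((Q : ℚ) - 1) / 2) ^ 2 * (1 / (b₁ : ℚ) + 1 / (b₂ : ℚ)) +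
      (Q : ℚ) ^ 2 * (1 / (d₁ : ℚ) + 1 / (d₂ : ℚ)) = K * (3 * (Q : ℚ) - 1) / ((Q : ℚ) + 1))
    (hF : (Q : ℚ) ^ 2 / d₂ - 1 / (a : ℚ) + ((Q : ℚ) - 1) ^ 2 / ((a : ℚ) - d₂) = 0)
    (hF₁ : 1 / (a₀ : ℚ) - (Q : ℚ) ^ 2 / d₁ -
      2 * (((Q : ℚ) - 1) / 2) ^ 2 * (1 / (b₁ : ℚ) + 1 / (b₂ : ℚ)) +
      (3 * ((Q : ℚ) - 1)) ^ 2 / ((d₁ : ℚ) + 2 * (b₁ + b₂) - a₀) = K * ((Q : ℚ) + 1))
    (hK : K * ((Q : ℚ) * ((Q : ℚ) ^ 2 - Q + 1)) = (Q : ℚ) ^ 2 - 1) :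
    a₀ = 1 := by
  have hQ0 : Q ≠ 0 := by omega
  have hQ1 : Q + 1 ≠ 0 := by omega
  have hQ2 : Q - 1 ≠ 0 := by omega
  have hA0 : a₀ ≠ 0 := by omega
  have ha0 : a ≠ 0 := by omega
  have hQ0' : (Q : ℚ) ≠ 0 := by exact_mod_cast hQ0
  have hQ1' : (Q : ℚ) + 1 ≠ 0 := by exact_mod_cast hQ1
  have hQ2' : (Q : ℚ) - 1 ≠ 0 := by exact_mod_cast hQ2
  have hA0' : (a₀ : ℚ) ≠ 0 := by exact_mod_cast hA0
  have ha' : (a : ℚ) ≠ 0 := by exact_mod_cast ha0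
  have hd₁' : (d₁ : ℚ) ≠ 0 := by exact_mod_cast hd₁
  have hd₂' : (d₂ : ℚ) ≠ 0 := by exact_mod_cast hd₂
  have hb₁' : (b₁ : ℚ) ≠ 0 := by exact_mod_cast hb₁
  have hb₂' : (b₂ : ℚ) ≠ 0 := by exact_mod_cast hb₂
  have hx' : (a : ℚ) - d₂ ≠ 0 := by exact_mod_cast hx
  have h2 : d₂ = Q * a := by
    have : ((Q : ℚ) * a - d₂) ^ 2 = 0 := by
      field_simp at hF
      linear_combination hF
    have := pow_eq_zero_iff (n := 2) (by norm_num) |>.1 this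
    exact_mod_cast (sub_eq_zero.1 this).symm
  have h1 : d₁ = -a₀ - (Q + 1) * a := by rw [h2] at hs; linear_combination hs
  have hb : b₁ + b₂ = a₀ + a := by omega
  have hy' : (d₁ : ℚ) + 2 * (b₁ + b₂) - a₀ = -((Q : ℚ) - 1) * a := by
    have : d₁ + 2 * (b₁ + b₂) - a₀ = -(Q - 1) * a := by rw [h1, hb]; ring
    exact_mod_cast this
  rw [hy'] at hF₁
  have e1 : (3 * ((Q : ℚ) - 1)) ^ 2 / (-((Q : ℚ) - 1) * a) = -9 * ((Q : ℚ) - 1) / a := by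
    field_simp; ring
  rw [e1] at hF₁
  have h2' : (d₂ : ℚ) = Q * a := by exact_mod_cast h2
  have eS : (Q : ℚ) ^ 2 * (1 / (d₁ : ℚ) + 1 / (d₂ : ℚ)) = (Q : ℚ) ^ 2 / d₁ + Q / a := by
    rw [h2']; field_simp
  rw [eS] at hA hB
  have hK' : K * ((Q : ℚ) * a) = -((Q : ℚ) ^ 2 - 1) := by
    have hB' : (((Q : ℚ) - 1) / 2) ^ 2 * (1 / (b₁ : ℚ) + 1 / (b₂ : ℚ)) =
        K * (3 * (Q : ℚ) - 1) / ((Q : ℚ) + 1) - ((Q : ℚ) ^ 2 / d₁ + Q / a) := by linear_combination hB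
    have key : -8 * ((Q : ℚ) - 1) / a = 8 * (K * Q) / ((Q : ℚ) + 1) := by
      have hk : K * ((Q : ℚ) + 1) + 2 * (K * (3 * (Q : ℚ) - 1) / ((Q : ℚ) + 1)) - K * ((Q : ℚ) - 1) =
          8 * (K * Q) / ((Q : ℚ) + 1) := by field_simp; ring
      rw [← hk]
      linear_combination hF₁ - hA + 2 * hB'
    field_simp at key
    linear_combination -key
  have h1' : (d₁ : ℚ) = -(a₀ : ℚ) - ((Q : ℚ) + 1) * a := by exact_mod_cast h1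
  have hA' : (a : ℚ) * d₁ + (a₀ : ℚ) * d₁ + (Q : ℚ) ^ 2 * a₀ * a + (Q : ℚ) * a₀ * d₁ =
      K * ((Q : ℚ) - 1) * ((a₀ : ℚ) * a * d₁) := by
    rw [← hA]; field_simp; ring
  have quad : (Q * a + a₀) * (a + a₀ * (Q ^ 2 - Q + 1)) = 0 := by
    have e : ((Q : ℚ) * a + a₀) * ((a : ℚ) + a₀ * ((Q : ℚ) ^ 2 - Q + 1)) * ((Q : ℚ) + 1) = 0 := by
      rw [h1'] at hA'
      linear_combination -(Q : ℚ) * hA' -
        ((a₀ : ℚ) * (-(a₀ : ℚ) - ((Q : ℚ) + 1) * a) * ((Q : ℚ) - 1)) * hK'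
    have := (mul_eq_zero.1 e).resolve_right hQ1'
    exact_mod_cast this
  rcases mul_eq_zero.1 quad with h | h
  · exfalso
    have h8 : (Q * a + a₀) % 8 = 4 := by
      rw [Int.add_emod, Int.mul_emod, hQ8, ha, h0]; rfl
    rw [h] at h8
    norm_num at h8
  · have hA1 : (a : ℚ) = -((a₀ : ℚ) * ((Q : ℚ) ^ 2 - Q + 1)) := by
      exact_mod_cast (eq_neg_of_add_eq_zero_left h)
    rw [hA1] at hK'
    have hne : (Q : ℚ) ^ 2 - 1 ≠ 0 := by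
      have : ((Q : ℚ) + 1) * ((Q : ℚ) - 1) ≠ 0 := mul_ne_zero hQ1' hQ2'
      intro h'; exact this (by linear_combination h')
    have : ((Q : ℚ) ^ 2 - 1) * ((a₀ : ℚ) - 1) = 0 := by
      linear_combination -hK' - (a₀ : ℚ) * hK
    have := sub_eq_zero.1 ((mul_eq_zero.1 this).resolve_left hne)
    exact_mod_cast this

end Cfsg.Agent.Lib.Walter.NoField
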