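import Cfsg.Agent.Lib.Walter.Assemble
import Cfsg.Agent.Lib.Walter.NoField.Local
import Cfsg.Agent.Lib.Walter.NoField.Centralizer

/-!
# Section Z (`PropNoField`): interface

Captain: helper37 (`notes/walter_nofield.md`).  Induction on the order of the group; three cases by
`E₀ ⊓ C(F)` (`F = fieldPart S`): more than `A₅` (`PropBig`), at most `A₅` with `|F|` prime
(`PropSmallPrime`) or composite (`PropSmallComposite`).
-/

set_option autoImplicit false
set_option linter.style.haveILetI false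
set_option linter.unusedSectionVars false

universe u

namespace Cfsg.Agent.Lib.Walter.NoField

open Subgroup

/-- Smaller groups of Janko–Ree type have no field automorphism. -/
def SmallerNoField (G : Type u) [Group G] : Prop :=
  ∀ (H : Type u) [Group H] [Finite H], Nat.card H < Nat.card G → IsJR H →
    ∀ v : H, orderOf v = 2 → ∀ E E₀ : Subgroup H, IsJRCentralizer v E E₀ → E = E₀

/-- The fixed group of all field automorphisms is larger than `A₅`. -/
def FixedBig {G : Type u} [Group G] (S : Sylow 2 G) (E₀ : Subgroup G) : Prop :=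
  60 < Nat.card ↥(E₀ ⊓ centralizer (fieldPart S : Set G))

/-- The case of a fixed group larger than `A₅`. -/
def PropBig : Prop :=
  PropKnown.{u} → PropKnownFacts.{u} → PropOrder.{u} →
    ∀ (G : Type u) [Group G] [Finite G] (S : Sylow 2 G) (t : G) (E E₀ : Subgroup G),
      Ctx S t E E₀ → SmallerNoField G → fieldPart S ≠ ⊥ → FixedBig S E₀ → False

/-- A small fixed group and a field part of prime order. -/
def PropSmallPrime : Prop :=
  PropKnown.{u} → PropKnownFacts.{u} → PropOrder.{u} →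
    ∀ (G : Type u) [Group G] [Finite G] (S : Sylow 2 G) (t : G) (E E₀ : Subgroup G),
      Ctx S t E E₀ → SmallerNoField G → (Nat.card ↥(fieldPart S)).Prime → ¬ FixedBig S E₀ → False

/-- A small fixed group and a field part of composite order. -/
def PropSmallComposite : Prop :=
  PropKnown.{u} → PropKnownFacts.{u} → PropOrder.{u} →
    ∀ (G : Type u) [Group G] [Finite G] (S : Sylow 2 G) (t : G) (E E₀ : Subgroup G),
      Ctx S t E E₀ → SmallerNoField G → fieldPart S ≠ ⊥ → ¬ (Nat.card ↥(fieldPart S)).Prime →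
        ¬ FixedBig S E₀ → False

/-- Section Z from its three cases. -/
theorem noField_of (hK : PropKnown.{u}) (hL : PropKnownFacts.{u}) (hO : PropOrder.{u})
    (hB : PropBig.{u}) (hP : PropSmallPrime.{u}) (hC : PropSmallComposite.{u}) :
    PropNoField.{u} := by
  suffices h : ∀ (n : ℕ) (G : Type u) [Group G] [Finite G], Nat.card G = n → IsJR G →
      ∀ t : G, orderOf t = 2 → ∀ E E₀ : Subgroup G, IsJRCentralizer t E E₀ → E = E₀ by
    intro G _ _ hG t ht E E₀ hE
    exact h _ G rfl hG t ht E E₀ hE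
  intro n
  induction n using Nat.strong_induction_on with
  | _ n ih =>
    intro G _ _ hn hG t ht E E₀ hE
    haveI : Fact (Nat.Prime 2) := ⟨Nat.prime_two⟩
    obtain ⟨S, hS⟩ := (IsPGroup.of_card (n := 1) (p := 2) (G := ↥(zpowers t))
      (by rw [Nat.card_zpowers, ht, pow_one])).exists_le_sylow
    have C : Ctx S t E E₀ := ⟨hG, ht, hS (mem_zpowers t), hE⟩
    have hIH : SmallerNoField G := fun H _ _ hH => ih _ (hn ▸ hH) H rfl
    refine C.eq_iff_fieldPart.2 ?_
    by_contra hF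
    by_cases hb : FixedBig S E₀
    · exact hB hK hL hO G S t E E₀ C hIH hF hb
    · by_cases hp : (Nat.card ↥(fieldPart S)).Prime
      · exact hP hK hL hO G S t E E₀ C hIH hp hb
      · exact hC hK hL hO G S t E E₀ C hIH hF hp hb

variable {G : Type u} [Group G] [Finite G]

/-- Orders of smaller groups of Janko–Ree type. -/
theorem order_of_smaller (hO : PropOrder.{u}) (hIH : SmallerNoField G) {H : Type u} [Group H]
    [Finite H] (hH : Nat.card H < Nat.card G) (hJ : IsJR H) {v : H} (hv : orderOf v = 2)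
    {E E₀ : Subgroup H} (hE : IsJRCentralizer v E E₀) :
    ∃ (F : Type) (_ : Field F) (_ : Fintype F),
      Nonempty (↥E₀ ≃* Matrix.ProjectiveSpecialLinearGroup (Fin 2) F) ∧
      ((∃ k : ℕ, 1 ≤ k ∧ Fintype.card F = 3 ^ (2 * k + 1) ∧
          Nat.card H = (3 ^ (2 * k + 1)) ^ 3 * ((3 ^ (2 * k + 1)) ^ 3 + 1) * (3 ^ (2 * k + 1) - 1)) ∨
        (Fintype.card F = 5 ∧ Cfsg.IsJ1 H)) := by
  have hEE := hIH H hH hJ v hv E E₀ hE
  subst hEE
  haveI := hJ.simple
  obtain ⟨F, i1, i2, hm, h5, ⟨e⟩⟩ := hE.2.2.2.2.1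
  obtain ⟨d⟩ := prod_equiv hv hE.1
  refine ⟨F, i1, i2, ⟨e⟩, ?_⟩
  rcases hO H (fun P a b => by haveI := (hJ.elementary P).1; exact mul_comm' a b) F (by omega) v hv
      ⟨d.trans ((MulEquiv.refl _).prodCongr e)⟩ with h | ⟨h4, hJ1⟩
  · exact Or.inl h
  · exact Or.inr ⟨by rcases h4 with h4 | h4 <;> omega, hJ1⟩

/-- By induction the fixed group of a non-trivial element of `F` is `A₄`, `A₅` or `PSL(2, 3 ^ odd)`. -/
theorem fixed_shape (hK : PropKnown.{u}) (hL : PropKnownFacts.{u}) (hO : PropOrder.{u})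
    (hIH : SmallerNoField G) {S : Sylow 2 G} {t : G} {E E₀ : Subgroup G} (C : Ctx S t E E₀)
    {x : G} (hx : x ∈ fieldPart S) (hx1 : x ≠ 1) :
    Nat.card ↥(E₀ ⊓ centralizer ({x} : Set G)) = 12 ∨
      (∃ (F : Type) (_ : Field F) (_ : Fintype F),
        Nonempty (↥(E₀ ⊓ centralizer ({x} : Set G)) ≃* Matrix.ProjectiveSpecialLinearGroup (Fin 2) F) ∧
        (Fintype.card F = 5 ∨ ∃ k : ℕ, 1 ≤ k ∧ Fintype.card F = 3 ^ (2 * k + 1))) := by
  haveI : Fact (Nat.Prime 2) := ⟨Nat.prime_two⟩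
  have hxS := fieldPart_le_centralizer S hx
  have hxo : Odd (orderOf x) := odd_orderOf_mem (odd_fieldPart S) hx
  obtain ⟨_, _, _, _, _, _, -, -, -, -, -, -, h⟩ :=
    Cent.fixed_cases C.jr C.ord C.mem C.cent hxS hxo
  rcases h with ⟨-, h⟩ | ⟨-, hodd⟩
  · exact Or.inl h
  refine Or.inr ?_
  obtain ⟨K, -, -, -, -, hTK, -, hJR, huniq⟩ :=
    Cent.centralizer_large C.jr C.ord C.mem C.cent hxS hxo hK hL hx1 hodd
  set v : ↥K := ⟨_, hTK (JRCore.qm_mem_quoSylow (Cent.sylow_le_centralizer hxS) C.mem)⟩ with hvdef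
  have hv : orderOf v = 2 := by
    refine orderOf_eq_prime (Subtype.ext ?_) fun h => ?_
    · show JRCore.qm _ ⟨t, Cent.sylow_le_centralizer hxS C.mem⟩ ^ 2 = 1
      have h1 := congrArg (JRCore.qm (centralizer ({x} : Set G)))
        (Subtype.ext (show t ^ 2 = 1 by rw [← C.ord, pow_orderOf_eq_one]) :
          (⟨t, Cent.sylow_le_centralizer hxS C.mem⟩ : ↥(centralizer ({x} : Set G))) ^ 2 = 1)
      rwa [map_pow, map_one] at h1
    · exact JRCore.qm_ne_one (Cent.sylow_le_centralizer hxS) C.mem (Walter66.ne_one_of_ord C.ord)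
        (congrArg Subtype.val h)
  obtain ⟨E', E₀', h'⟩ := hJR.centralizer v hv
  have hlt : Nat.card ↥K < Nat.card G :=
    card_subgroup_quotient_lt (Cent.centralizer_ne_top C.jr hx1) _ K
  obtain ⟨F, i1, i2, ⟨e⟩, hF⟩ := order_of_smaller hO hIH hlt hJR hv h'
  obtain ⟨eL⟩ := Cent.fixedBar_equiv C.jr C.ord C.mem C.cent hxS hxo
  refine ⟨F, i1, i2, ⟨(eL.trans ((MulEquiv.subgroupCongr (huniq v rfl E' E₀' h').symm).trans
    (E₀'.equivMapOfInjective K.subtype K.subtype_injective).symm)).trans e⟩, ?_⟩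
  rcases hF with ⟨k, hk, hkc, -⟩ | ⟨h5, -⟩
  · exact Or.inr ⟨k, hk, hkc⟩
  · exact Or.inl h5

end Cfsg.Agent.Lib.Walter.NoField
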