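import Cfsg.Agent.Lib.Walter.NoField.SmallPrime.Base
import Cfsg.Agent.Lib.Fusion.Thompson

/-!
# Section Z, small primes: the transfer

`SmallPrime.false_of_base`: no simple group has an element `x` of prime order `l ≥ 3`, conjugate to
no other power of itself, with `P = ⟨x, w⟩` of order `l²` self-centralising and a Sylow `l`-subgroup
of `C(x)`, and an element of `C(x)` of order prime to `l` inducing `w ↦ wᵏ`, `k² ≢ 1 (mod l)`.
`P` lies in one Sylow `l`-subgroup `R`, so fusion of `x` in `R` is controlled by `N(R)`, which fixes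
`x` modulo `R'`.

Owner: helper87.
-/

set_option autoImplicit false
set_option linter.style.haveILetI false
set_option linter.unusedSectionVars false

universe u

namespace Cfsg.Agent.Lib.Walter.NoField.SmallPrime

open Subgroup

variable {G : Type u} [Group G] [Finite G] {x w : G} {l : ℕ} [Fact l.Prime]

theorem Base.le_normalizer_unique (B : Base x w l) {D : Subgroup G} (hD : IsPGroup l ↥D)
    (hPD : zpowers x ⊔ zpowers w ≤ D) (U U' : Sylow l ↥(normalizer (D : Set G))) : U = U' := by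
  obtain ⟨ρ, hker, hns, -, -, -⟩ := B.exists_rho hD hPD
  obtain ⟨Q⟩ : Nonempty (Sylow l ↥ρ.range) := inferInstance
  have hall : ∀ V : Sylow l ↥(normalizer (D : Set G)),
      (V : Subgroup ↥(normalizer (D : Set G))) =
        (Q : Subgroup ↥ρ.range).comap ρ.rangeRestrict := by
    intro V
    have hp : IsPGroup l ↥((Q : Subgroup ↥ρ.range).comap ρ.rangeRestrict) :=
      Q.isPGroup'.comap_of_ker_isPGroup _ (by rw [MonoidHom.ker_rangeRestrict]; exact hker)
    refine (V.is_maximal' hp fun g hg => ?_).symm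
    obtain ⟨Q', hQ'⟩ := (V.isPGroup'.map ρ.rangeRestrict).exists_le_sylow
    rw [mem_comap, subsingleton_sylow B.ne_two hns Q Q']
    exact hQ' ⟨g, hg, rfl⟩
  exact Sylow.ext ((hall U).trans (hall U').symm)

/-- `P` lies in only one Sylow `l`-subgroup. -/
theorem Base.sylow_unique (B : Base x w l) (R R' : Sylow l G)
    (hR : zpowers x ⊔ zpowers w ≤ (R : Subgroup G)) (hR' : zpowers x ⊔ zpowers w ≤ (R' : Subgroup G)) :
    R = R' := by
  suffices h : ∀ (n : ℕ) (R R' : Sylow l G), zpowers x ⊔ zpowers w ≤ (R : Subgroup G) →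
      zpowers x ⊔ zpowers w ≤ (R' : Subgroup G) →
      Nat.card G - Nat.card ↥((R : Subgroup G) ⊓ R' : Subgroup G) = n → R = R' from
    h _ R R' hR hR' rfl
  intro n
  induction n using Nat.strong_induction_on with
  | _ n ih =>
    intro R R' hR hR' hn
    by_contra hne
    set D : Subgroup G := (R : Subgroup G) ⊓ R' with hDdef
    have hD : IsPGroup l ↥D := R.isPGroup'.to_inf_left
    have hPD : zpowers x ⊔ zpowers w ≤ D := le_inf hR hR'
    set N := normalizer (D : Set G) with hN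
    have grow : ∀ T : Sylow l G, D ≤ (T : Subgroup G) → (T : Subgroup G) ≠ D →
        ∃ D₁ : Subgroup G, D < D₁ ∧ D₁ ≤ (T : Subgroup G) ∧ D₁ ≤ N := by
      intro T hDT hne'
      haveI : Group.IsNilpotent ↥(T : Subgroup G) := T.isPGroup'.isNilpotent
      have hlt : D.subgroupOf (T : Subgroup G) < ⊤ := by
        rw [lt_top_iff_ne_top, Ne, subgroupOf_eq_top]
        exact fun h => hne' (le_antisymm h hDT)
      have h1 := Group.normalizerCondition_of_isNilpotent _ hlt
      refine ⟨(normalizer (D.subgroupOf (T : Subgroup G) : Set ↥(T : Subgroup G))).map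
        (T : Subgroup G).subtype, ?_, map_subtype_le _, ?_⟩
      · have h2 := (map_lt_map_iff_of_injective (T : Subgroup G).subtype_injective).2 h1
        rwa [subgroupOf_map_subtype, inf_eq_left.2 hDT] at h2
      · rintro _ ⟨g, hg, rfl⟩
        refine mem_normalizer_iff.2 fun y => ⟨fun hy => ?_, fun hy => ?_⟩
        · have := (mem_normalizer_iff.1 hg ⟨y, hDT hy⟩).1 (mem_subgroupOf.2 hy)
          exact mem_subgroupOf.1 this
        · have hyT : y ∈ (T : Subgroup G) := by
            have h3 := hDT hy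
            have := mul_mem (mul_mem (inv_mem g.2) h3) g.2
            simpa [mul_assoc] using this
          exact mem_subgroupOf.1 ((mem_normalizer_iff.1 hg ⟨y, hyT⟩).2 (mem_subgroupOf.2 hy))
    have hne1 : (R : Subgroup G) ≠ D := fun h => hne (Sylow.ext
      ((R.is_maximal' R'.isPGroup' (h.le.trans inf_le_right)).symm))
    have hne2 : (R' : Subgroup G) ≠ D := fun h => hne (Sylow.ext
      (R'.is_maximal' R.isPGroup' (h.le.trans inf_le_left)))
    obtain ⟨D₁, hlt₁, hD₁R, hD₁N⟩ := grow R inf_le_left hne1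
    obtain ⟨D₂, hlt₂, hD₂R, hD₂N⟩ := grow R' inf_le_right hne2
    obtain ⟨U, hU⟩ := ((R.isPGroup'.to_le hD₁R).comap_of_injective N.subtype
      N.subtype_injective).exists_le_sylow
    obtain ⟨U', hU'⟩ := ((R'.isPGroup'.to_le hD₂R).comap_of_injective N.subtype
      N.subtype_injective).exists_le_sylow
    rw [← B.le_normalizer_unique hD hPD U U'] at hU'
    obtain ⟨R'', hR''⟩ := (U.isPGroup'.map N.subtype).exists_le_sylow
    have h1 : D₁ ≤ (R'' : Subgroup G) := fun g hg =>
      hR'' ⟨⟨g, hD₁N hg⟩, hU hg, rfl⟩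
    have h2 : D₂ ≤ (R'' : Subgroup G) := fun g hg =>
      hR'' ⟨⟨g, hD₂N hg⟩, hU' hg, rfl⟩
    have hlt : ∀ {X Y : Subgroup G}, D < X → X ≤ Y →
        Nat.card G - Nat.card ↥Y < n := by
      intro X Y hX hY
      have hlt' : Nat.card ↥D < Nat.card ↥Y := lt_of_not_ge fun h =>
        (lt_of_lt_of_le hX hY).ne (eq_of_le_of_card_ge (lt_of_lt_of_le hX hY).le h)
      have := Subgroup.card_le_card_group (H := Y)
      omega
    have e1 : R = R'' := ih _ (hlt hlt₁ (le_inf hD₁R h1)) R R'' hR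
      (hPD.trans (hlt₁.le.trans h1)) rfl
    have e2 : R' = R'' := ih _ (hlt hlt₂ (le_inf hD₂R h2)) R' R'' hR'
      (hPD.trans (hlt₁.le.trans h1)) rfl
    exact hne (e1.trans e2.symm)

/-- The contradiction. -/
theorem false_of_base [IsSimpleGroup G] (B : Base x w l) (hna : ¬ IsMulCommutative G) {d : G}
    {k : ℕ} (hdx : Commute d x) (hdw : d * w * d⁻¹ = w ^ k) (hd : (orderOf d).Coprime l)
    (hk : ¬ k ^ 2 ≡ 1 [MOD l]) : False := by
  classical
  have hlp : l.Prime := Fact.out
  obtain ⟨R, hR⟩ := B.isPGroup_P.exists_le_sylow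
  set N := normalizer ((R : Subgroup G) : Set G) with hN
  have hfix : ∀ g : G, zpowers x ⊔ zpowers w ≤ ((g • R : Sylow l G) : Subgroup G) → g ∈ N := by
    intro g hg
    exact Sylow.smul_eq_iff_mem_normalizer.1 (B.sylow_unique _ R hg hR)
  have hdN : d ∈ N := by
    refine inv_mem_iff.1 (hfix d⁻¹ (sup_le (zpowers_le.2 ?_) (zpowers_le.2 ?_))) <;>
      rw [Sylow.coe_subgroup_smul]
    · refine ⟨x, hR (mem_sup_left (mem_zpowers x)), ?_⟩
      show d⁻¹ * x * d⁻¹⁻¹ = x
      rw [hdx.inv_left.eq, mul_inv_cancel_right]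
    · refine ⟨w ^ k, pow_mem (hR (mem_sup_right (mem_zpowers w))) k, ?_⟩
      show d⁻¹ * w ^ k * d⁻¹⁻¹ = w
      rw [← hdw]
      group
  obtain ⟨ρ, hker, hns, hinner, hcomm, hline⟩ := B.exists_rho R.isPGroup' hR
  -- `N(R)` acts with order prime to `l`
  have hcop : ¬ l ∣ Nat.card ↥ρ.range := by
    rw [← Subgroup.index_ker]
    intro h
    have h1 : ρ.ker.index ∣ ((R : Subgroup G).subgroupOf N).index :=
      index_dvd_of_le fun g hg => MonoidHom.mem_ker.2 (hinner g (mem_subgroupOf.1 hg))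
    have h2 : ((R : Subgroup G).subgroupOf N).index ∣ (R : Subgroup G).index :=
      Subgroup.relIndex_dvd_index_of_le le_normalizer
    exact R.not_dvd_index ((h.trans h1).trans h2)
  set δ := ρ ⟨d, hdN⟩ with hδdef
  have hδ10 : (δ : Matrix (Fin 2) (Fin 2) (ZMod l)) 1 0 = 0 := hcomm ⟨d, hdN⟩ hdx
  have hdet : (δ : Matrix (Fin 2) (Fin 2) (ZMod l)) 1 1 ^ 2 ≠ 1 := by
    intro h11
    have hδ00 : (δ : Matrix (Fin 2) (Fin 2) (ZMod l)) 0 0 = 1 := hns δ ⟨_, rfl⟩ hδ10
    set b := (δ : Matrix (Fin 2) (Fin 2) (ZMod l)) 0 1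
    set c := (δ : Matrix (Fin 2) (Fin 2) (ZMod l)) 1 1
    -- `δ²` is unipotent, so of order dividing `l`
    have hpow : (((δ * δ) ^ l : GL (Fin 2) (ZMod l)) : Matrix (Fin 2) (Fin 2) (ZMod l)) = 1 := by
      have hsq : ((δ * δ : GL (Fin 2) (ZMod l)) : Matrix (Fin 2) (Fin 2) (ZMod l)) =
          1 + !![0, b * (1 + c); 0, 0] := by
        rw [Units.val_mul]
        ext i j
        fin_cases i <;> fin_cases j <;>
          simp [Matrix.mul_apply, Fin.sum_univ_two, hδ10, hδ00, b, c] <;>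
          first | ring1 | linear_combination h11
      have hnil : !![0, b * (1 + c); 0, 0] * !![0, b * (1 + c); (0 : ZMod l), 0] = 0 := by
        ext i j
        fin_cases i <;> fin_cases j <;> simp [Matrix.mul_apply, Fin.sum_univ_two]
      have hn : ∀ n : ℕ, (1 + !![0, b * (1 + c); (0 : ZMod l), 0]) ^ n =
          1 + (n : ZMod l) • !![0, b * (1 + c); 0, 0] := by
        intro n
        generalize !![0, b * (1 + c); (0 : ZMod l), 0] = M at hnil ⊢
        induction n with
        | zero => simp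
        | succ n ihn =>
          rw [pow_succ, ihn, add_mul, one_mul, mul_add, mul_one, smul_mul_assoc, hnil, smul_zero,
            Nat.cast_succ, add_smul, one_smul]
          abel
      rw [Units.val_pow_eq_pow_val, hsq, hn, ZMod.natCast_self, zero_smul, add_zero]
    have h1 : ρ ⟨d, hdN⟩ * ρ ⟨d, hdN⟩ = 1 := by
      have ho : orderOf (δ * δ) ∣ l := orderOf_dvd_of_pow_eq_one (Units.ext hpow)
      rcases (Nat.dvd_prime hlp).1 ho with h | h
      · exact orderOf_eq_one_iff.1 h
      · exfalso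
        apply hcop
        have hm : δ * δ ∈ ρ.range := mul_mem ⟨_, rfl⟩ ⟨_, rfl⟩
        exact h.symm.dvd.trans (Subgroup.orderOf_dvd_natCard _ hm)
    have hmem : (⟨d, hdN⟩ * ⟨d, hdN⟩ : ↥N) ∈ ρ.ker := by rw [MonoidHom.mem_ker, map_mul, h1]
    obtain ⟨j, hj⟩ := hker ⟨_, hmem⟩
    have hj' : (d * d) ^ l ^ j = 1 := congrArg Subtype.val (congrArg Subtype.val hj)
    have hd2 : d * d = 1 := by
      refine orderOf_eq_one_iff.1 (Nat.eq_one_of_dvd_coprimes (hd.pow_right j) ?_
        (orderOf_dvd_of_pow_eq_one hj'))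
      rw [← pow_two]
      exact orderOf_pow_dvd 2
    have hw : w ^ (k ^ 2) = w := by
      have e : d * (d * w * d⁻¹) * d⁻¹ = w := by
        rw [show d * (d * w * d⁻¹) * d⁻¹ = (d * d) * w * (d * d)⁻¹ by group, hd2, one_mul, inv_one,
          mul_one]
      rwa [hdw, ← conj_pow, hdw, ← pow_mul, ← pow_two] at e
    refine hk ?_
    rw [← B.ordw, ← pow_eq_pow_iff_modEq, pow_one]
    exact hw
  -- `N(R)` fixes `x` modulo `R'`
  have hall : ∀ h : ↥N, (ρ h : Matrix (Fin 2) (Fin 2) (ZMod l)) 1 0 = 0 := fun h =>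
    fixed B.ne_two hns hcop ⟨_, rfl⟩ hδ10 hdet ⟨h, rfl⟩
  have hxR : x ∈ (R : Subgroup G) := hR (mem_sup_left (mem_zpowers x))
  -- fusion
  have hctrl : ∀ (m : ℕ) (a : G) (ha : a * x ^ m * a⁻¹ ∈ (R : Subgroup G)),
      Abelianization.of (⟨a * x ^ m * a⁻¹, ha⟩ : ↥(R : Subgroup G)) =
        Abelianization.of (⟨x, hxR⟩ : ↥(R : Subgroup G)) ^ m := by
    intro m a ha
    by_cases hm : l ∣ m
    · obtain ⟨i, rfl⟩ := hm
      have h1 : x ^ (l * i) = 1 := by rw [pow_mul, ← B.ordx, pow_orderOf_eq_one, one_pow]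
      rw [← map_pow]
      refine congrArg _ (Subtype.ext ?_)
      show a * x ^ (l * i) * a⁻¹ = x ^ (l * i)
      rw [h1]
      group
    set y : ↥(R : Subgroup G) := ⟨a * x ^ m * a⁻¹, ha⟩ with hy
    -- a subgroup of order `l²` of `C_R(y)`
    set Q := (centralizer ({y} : Set ↥(R : Subgroup G))).map (R : Subgroup G).subtype with hQ
    have hQp : IsPGroup l ↥Q := (R.isPGroup'.to_subgroup _).map _
    have hQcard : l ^ 2 ≤ Nat.card ↥Q := by
      obtain ⟨i, hi⟩ := IsPGroup.iff_card.1 hQp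
      rw [hi]
      refine Nat.pow_le_pow_right hlp.pos ?_
      by_contra hlt
      have hle : Nat.card ↥(centralizer ({y} : Set ↥(R : Subgroup G))) ≤ l := by
        rw [← Subgroup.card_map_of_injective (R : Subgroup G).subtype_injective, ← hQ, hi]
        calc l ^ i ≤ l ^ 1 := Nat.pow_le_pow_right hlp.pos (by omega)
          _ = l := pow_one l
      have hyo : orderOf y = l := by
        rw [← Subgroup.orderOf_coe, hy]
        show orderOf (a * x ^ m * a⁻¹) = l
        rw [Involutions.Basic.orderOf_conj_eq, Nat.Coprime.orderOf_pow, B.ordx]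
        rw [B.ordx]
        exact hlp.coprime_iff_not_dvd.2 hm
      have hzy : zpowers y = centralizer ({y} : Set ↥(R : Subgroup G)) :=
        eq_of_le_of_card_ge (zpowers_le.2 (mem_centralizer_singleton_iff.2 rfl))
          (by rw [Nat.card_zpowers, hyo]; exact hle)
      haveI : Nontrivial ↥(R : Subgroup G) := ⟨⟨x, hxR⟩, 1, fun h => by
        have := congrArg Subtype.val h
        rw [show x = 1 from this] at *
        exact hlp.one_lt.ne (by rw [← B.ordx, orderOf_one])⟩
      obtain ⟨z, hz, hz1⟩ := (Subgroup.ne_bot_iff_exists_ne_one).1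
        (Subgroup.nontrivial_iff_ne_bot _ |>.1 R.isPGroup'.center_nontrivial) |> fun ⟨z, hz⟩ =>
          (⟨(z : ↥(R : Subgroup G)), z.2, fun e => hz (Subtype.ext e)⟩ :
            ∃ z : ↥(R : Subgroup G), z ∈ Subgroup.center ↥(R : Subgroup G) ∧ z ≠ 1)
      have hzmem : z ∈ zpowers y :=
        hzy.symm ▸ mem_centralizer_singleton_iff.2 (mem_center_iff.1 hz y).symm
      -- `y` is central
      have hyz : y ∈ Subgroup.center ↥(R : Subgroup G) := by
        have hzy' : zpowers z = zpowers y := by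
          refine eq_of_le_of_card_ge (zpowers_le.2 hzmem) ?_
          rw [Nat.card_zpowers, Nat.card_zpowers, hyo]
          have := orderOf_dvd_of_mem_zpowers hzmem
          rw [hyo] at this
          rcases (Nat.dvd_prime hlp).1 this with h | h
          · exact absurd (orderOf_eq_one_iff.1 h) hz1
          · exact h.ge
        exact (zpowers_le.2 hz) (hzy' ▸ mem_zpowers y)
      have htop : centralizer ({y} : Set ↥(R : Subgroup G)) = ⊤ := eq_top_iff.2 fun g _ =>
        mem_centralizer_singleton_iff.2 (mem_center_iff.1 hyz g)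
      rw [htop, Subgroup.card_top] at hle
      have := Nat.le_of_dvd Nat.card_pos (card_dvd_of_le hR)
      rw [B.card_P] at this
      have := hlp.two_le
      nlinarith
    set Q' := Q.map (MulAut.conj a⁻¹).toMonoidHom with hQ'
    have hQ'C : Q' ≤ centralizer ({x} : Set G) := by
      rintro _ ⟨_, ⟨z, hz, rfl⟩, rfl⟩
      refine mem_centralizer_singleton_iff.2 (B.centralizer_pow hm ?_).eq
      have h1 : (z : G) * (a * x ^ m * a⁻¹) = (a * x ^ m * a⁻¹) * z :=
        congrArg Subtype.val (mem_centralizer_singleton_iff.1 hz)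
      show a⁻¹ * (z : G) * a⁻¹⁻¹ * x ^ m = x ^ m * (a⁻¹ * (z : G) * a⁻¹⁻¹)
      calc a⁻¹ * (z : G) * a⁻¹⁻¹ * x ^ m = a⁻¹ * ((z : G) * (a * x ^ m * a⁻¹)) * a := by group
        _ = a⁻¹ * ((a * x ^ m * a⁻¹) * z) * a := by rw [h1]
        _ = _ := by group
    -- move it onto `P`
    haveI : Finite (Sylow l ↥(centralizer ({x} : Set G))) := inferInstance
    obtain ⟨S₁, hS₁⟩ := ((hQp.map _ : IsPGroup l ↥Q').comap_of_injective
      (centralizer ({x} : Set G)).subtype (Subgroup.subtype_injective _)).exists_le_sylow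
    obtain ⟨S₂, hS₂⟩ := (B.isPGroup_P.comap_of_injective
      (centralizer ({x} : Set G)).subtype (Subgroup.subtype_injective _)).exists_le_sylow
    obtain ⟨e, he⟩ := MulAction.exists_smul_eq ↥(centralizer ({x} : Set G)) S₁ S₂
    have hS₂' : (S₂ : Subgroup ↥(centralizer ({x} : Set G))).map
        (centralizer ({x} : Set G)).subtype = zpowers x ⊔ zpowers w := by
      symm
      refine eq_of_le_of_card_ge (fun g hg => ⟨⟨g, B.P_le hg⟩, hS₂ hg, rfl⟩) ?_
      rw [B.card_P]
      exact B.card_le (S₂.isPGroup'.map _) (map_subtype_le _)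
    set g := (e : G) * a⁻¹ with hg
    have hgQ : Q.map (MulAut.conj g).toMonoidHom = zpowers x ⊔ zpowers w := by
      refine eq_of_le_of_card_ge ?_ ?_
      · rw [← hS₂', ← he]
        rintro _ ⟨z, hz, rfl⟩
        have hz' : a⁻¹ * z * a⁻¹⁻¹ ∈ centralizer ({x} : Set G) := hQ'C ⟨z, hz, rfl⟩
        refine ⟨e * ⟨_, hz'⟩ * e⁻¹, ?_, ?_⟩
        · rw [Sylow.coe_subgroup_smul]
          exact ⟨⟨_, hz'⟩, hS₁ ⟨z, hz, rfl⟩, rfl⟩
        · show (e : G) * (a⁻¹ * z * a⁻¹⁻¹) * (e : G)⁻¹ = g * z * g⁻¹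
          rw [hg]
          group
      · rw [B.card_P, Subgroup.card_map_of_injective (MulAut.conj g).injective]
        exact hQcard
    have hgN : g ∈ N := hfix g (by
      rw [← hgQ, Sylow.coe_subgroup_smul]
      rintro _ ⟨z, hz, rfl⟩
      exact ⟨z, (map_subtype_le _) hz, rfl⟩)
    have hgy : g * (a * x ^ m * a⁻¹) * g⁻¹ = x ^ m := by
      rw [hg, show (e : G) * a⁻¹ * (a * x ^ m * a⁻¹) * ((e : G) * a⁻¹)⁻¹ =
        (e : G) * x ^ m * (e : G)⁻¹ by group,
        (((show Commute (e : G) x from mem_centralizer_singleton_iff.1 e.2)).pow_right m).eq,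
        mul_inv_cancel_right]
    -- `g⁻¹` fixes `x` modulo `R'`
    have hxg : g⁻¹ * x * g⁻¹⁻¹ ∈ (R : Subgroup G) := (mem_normalizer_iff.1 (inv_mem hgN) x).1 hxR
    have h1 := hline ⟨g⁻¹, inv_mem hgN⟩ (hall _) ⟨_, hxg⟩ rfl
    rw [← h1, ← map_pow]
    refine congrArg _ (Subtype.ext ?_)
    show a * x ^ m * a⁻¹ = (g⁻¹ * x * g⁻¹⁻¹) ^ m
    rw [conj_pow]
    conv_rhs => rw [← hgy]
    group
  have htr := Fusion.Thompson.transfer_controlled (Abelianization.of (G := ↥(R : Subgroup G))) x hxR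
    hctrl
  set V := MonoidHom.transfer (Abelianization.of (G := ↥(R : Subgroup G))) with hV
  have hVker : V.ker = ⊤ := by
    refine (IsSimpleGroup.eq_bot_or_eq_top_of_normal V.ker inferInstance).resolve_left fun h =>
      hna ⟨⟨fun p q => (MonoidHom.ker_eq_bot_iff V).1 h (by rw [map_mul, map_mul, mul_comm])⟩⟩
  rw [show V x = 1 from MonoidHom.mem_ker.1 (hVker ▸ mem_top x)] at htr
  have hone : Abelianization.of (⟨x, hxR⟩ : ↥(R : Subgroup G)) = 1 := by
    refine orderOf_eq_one_iff.1 (Nat.eq_one_of_dvd_coprimes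
      (hlp.coprime_iff_not_dvd.2 R.not_dvd_index) ?_ (orderOf_dvd_of_pow_eq_one htr.symm))
    refine orderOf_dvd_of_pow_eq_one ?_
    rw [← map_pow, show (⟨x, hxR⟩ : ↥(R : Subgroup G)) ^ l = 1 from
      Subtype.ext ((congrArg (x ^ ·) B.ordx.symm).trans (pow_orderOf_eq_one x)), map_one]
  -- but the class of `x` is not `R'`
  obtain ⟨-, hcl⟩ := B.classes R.isPGroup' hR
  have hmem : (⟨x, hxR⟩ : ↥(R : Subgroup G)) ∈ _root_.commutator ↥(R : Subgroup G) := by
    rw [← Abelianization.ker_of, MonoidHom.mem_ker]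
    exact hone
  obtain ⟨p, hp⟩ := hcl 1 (fun h => hlp.one_lt.ne' (Nat.dvd_one.1 h)) _ (inv_mem hmem)
  rw [pow_one] at hp
  have hx1 : x = 1 := conj_eq_one_iff.1 (hp.trans (mul_inv_cancel x))
  have := B.ordx
  rw [hx1, orderOf_one] at this
  exact hlp.one_lt.ne this

end Cfsg.Agent.Lib.Walter.NoField.SmallPrime
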